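import Cfsg.Agent.SmallOrders.PrincipalBlock
import Cfsg.Agent.S4811
import Cfsg.Agent.S0165

/-!
Integer data of the principal block of a simple group with a Sylow subgroup of order `p`.
-/

set_option autoImplicit false
set_option linter.style.haveILetI false
set_option linter.unusedSectionVars false

namespace CfsgLib.SmallOrd

open Cfsg CfsgLib.CharBasics
open scoped ComplexConjugate

universe u

variable {G : Type u} [Group G] [Finite G]

/-- A homomorphism from a nonabelian simple group to a commutative monoid is trivial. -/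
theorem monoidHom_eq_one [IsSimpleGroup G] (hG : ¬ IsMulCommutative G) {R : Type*} [CommMonoid R] (μ : G →* R)
    (y : G) : μ y = 1 := by
  have hle : commutator G ≤ μ.toHomUnits.ker := Abelianization.commutator_subset_ker _
  rcases (inferInstance : (commutator G).Normal).eq_bot_or_eq_top with h | h
  · exact absurd ⟨⟨fun a b => commutatorElement_eq_one_iff_mul_comm.1 (Subgroup.mem_bot.1
      (h ▸ Subgroup.commutator_mem_commutator (Subgroup.mem_top a) (Subgroup.mem_top b)))⟩⟩ hG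
  · exact congrArg Units.val (MonoidHom.mem_ker.1 (hle (h ▸ Subgroup.mem_top y)))

theorem one_lt_degree [IsSimpleGroup G] (hG : ¬ IsMulCommutative G) (χ : IrrCharacter G)
    (hχ : χ ≠ oneChar) : 1 < charDegree (χ : G → ℂ) := by
  haveI := Fintype.ofFinite G
  refine (Nat.one_le_iff_ne_zero.2 (charDegree_pos χ.2).ne').lt_of_ne fun h => hχ (Subtype.ext (funext fun g => ?_))
  have hc := isCharacter_of_irr χ.2
  let μ : G →* ℂ :=
    { toFun := (χ : G → ℂ)
      map_one' := by rw [apply_one hc, ← h, Nat.cast_one]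
      map_mul' := Cfsg.Agent.S4811.apply_mul_of_degree_one hc h.symm }
  exact (monoidHom_eq_one hG μ g).trans (oneChar_apply g).symm

/-- The principal block, split into the trivial character, `R`, and a family `Y` agreeing on regular elements. -/
structure Split (p e : ℕ) (P : Subgroup G) where
  R : Finset (IrrCharacter G)
  Y : Finset (IrrCharacter G)
  σ : IrrCharacter G → ℤ
  δ : ℤ
  disj : Disjoint R Y
  one_notMem : oneChar ∉ R ∧ oneChar ∉ Y
  block : ∀ M : Ideal AlgInt, IsPModular p M → ∀ χ ∈ principalBlock M G, χ = oneChar ∨ χ ∈ R ∨ χ ∈ Y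
  card_R : R.card + 1 = e
  card_Y : Y.card = (p - 1) / e
  nonempty_Y : Y.Nonempty
  sign_R : ∀ χ ∈ R, σ χ = 1 ∨ σ χ = -1
  sign_Y : δ = 1 ∨ δ = -1
  deg_R : ∀ χ ∈ R, (p : ℤ) ∣ σ χ * charDegree (χ : G → ℂ) - 1
  deg_Y : ∀ θ ∈ Y, (p : ℤ) ∣ δ * charDegree (θ : G → ℂ) + e
  val_R : ∀ χ ∈ R, ∀ x ∈ P, x ≠ 1 → ∀ y ∈ Subgroup.centralizer (P : Set G), ¬ p ∣ orderOf y →
    (χ : G → ℂ) (x * y) = (σ χ : ℂ)
  agree : ∀ θ ∈ Y, ∀ θ' ∈ Y, ∀ g : G, ¬ p ∣ orderOf g → (θ : G → ℂ) g = (θ' : G → ℂ) g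
  rel : ∀ θ ∈ Y, ∀ g : G, ¬ p ∣ orderOf g →
    1 + ∑ χ ∈ R, (σ χ : ℂ) * (χ : G → ℂ) g + (δ : ℂ) * (θ : G → ℂ) g = 0

theorem exists_split [IsSimpleGroup G] (hG : ¬ IsMulCommutative G) {p : ℕ} [Fact p.Prime]
    (hp2 : p ≠ 2) (P : Sylow p G) (hP : Nat.card P = p) {e : ℕ}
    (he : (Subgroup.centralizer ((P : Subgroup G) : Set G)).relIndex (Subgroup.normalizer ((P : Subgroup G) : Set G)) = e) :
    Nonempty (Split (G := G) p e (P : Subgroup G)) := by
  classical
  haveI := Fintype.ofFinite G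
  haveI := Fintype.ofFinite (IrrCharacter G)
  have hp : p.Prime := Fact.out
  obtain ⟨M, hM⟩ := Blocks.exists_modular hp
  obtain ⟨X, Y, hb, hd, hX, hY, εX, ε, hXs, hε, hYd, hag, hrel⟩ := Cfsg.Agent.S4441.result p M hM hp2 P hP e he
  have he0 : 0 < e := by
    rw [← he]; exact Nat.pos_of_ne_zero Subgroup.index_ne_zero_of_finite
  have hblock : ∀ M' : Ideal AlgInt, IsPModular p M' → principalBlock M' G = X ∪ Y := by
    intro M' hM'
    obtain ⟨D, hD⟩ := DefectOne.exists_data P hP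
    rw [← hb, D.principalBlock_eq hM, D.principalBlock_eq hM']
  have hsum : ∀ {β : Type u} (g : IrrCharacter G → ℂ), (∑ᶠ χ ∈ X, g χ) = ∑ χ ∈ X.toFinset, g χ := fun g =>
    finsum_mem_eq_toFinset_sum g X
  have hcX : X.toFinset.card = e := by rw [← hX, Nat.card_eq_fintype_card, Set.toFinset_card]
  have hcY : Y.toFinset.card = (p - 1) / e := by rw [← hY, Nat.card_eq_fintype_card, Set.toFinset_card]
  have hone : ¬ p ∣ orderOf (1 : G) := by rw [orderOf_one]; exact hp.not_dvd_one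
  have hel : e ≤ p - 1 := by
    have : e ∣ p - 1 := by
      obtain ⟨D, hD⟩ := DefectOne.exists_data P hP
      rw [← he, ← hD, D.relIndex_eq, ← D.card_U_one]
      exact D.card_U_dvd _
    exact Nat.le_of_dvd (by have := hp.two_le; omega) this
  have hYne : 0 < Y.toFinset.card := by rw [hcY]; exact Nat.div_pos hel he0
  rcases (hb ▸ Blocks.oneChar_mem_principal hM : oneChar ∈ X ∪ Y) with h1 | h1
  · have hσ1 : εX oneChar = 1 := by
      obtain ⟨⟨x, hxP⟩, hx⟩ : ∃ x : (P : Subgroup G), x ≠ 1 := by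
        haveI : Nontrivial (P : Subgroup G) := Finite.one_lt_card_iff_nontrivial.1 (by rw [hP]; exact hp.one_lt)
        exact exists_ne 1
      have := (hXs _ h1).2.2 x hxP (fun e => hx (Subtype.ext e)) 1 (Subgroup.one_mem _) hone
      rw [oneChar_apply] at this
      exact_mod_cast this.symm
    refine ⟨{ R := X.toFinset.erase oneChar, Y := Y.toFinset, σ := εX, δ := -ε,
              disj := ?_, one_notMem := ⟨Finset.notMem_erase _ _, ?_⟩, block := ?_, card_R := ?_, card_Y := hcY,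
              nonempty_Y := Finset.card_pos.1 hYne, sign_R := ?_, sign_Y := by omega, deg_R := ?_, deg_Y := ?_,
              val_R := ?_, agree := ?_, rel := ?_ }⟩
    · exact Finset.disjoint_of_subset_left (Finset.erase_subset _ _) (Set.disjoint_toFinset.2 hd)
    · rw [Set.mem_toFinset]; exact fun h => Set.disjoint_left.1 hd h1 h
    · intro M' hM' χ hχ
      rw [hblock M' hM'] at hχ
      by_cases h : χ = oneChar
      · exact Or.inl h
      · rcases hχ with hχ | hχ
        · exact Or.inr (Or.inl (Finset.mem_erase.2 ⟨h, Set.mem_toFinset.2 hχ⟩))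
        · exact Or.inr (Or.inr (Set.mem_toFinset.2 hχ))
    · rw [Finset.card_erase_add_one (Set.mem_toFinset.2 h1), hcX]
    · exact fun χ hχ => (hXs χ (Set.mem_toFinset.1 (Finset.mem_of_mem_erase hχ))).1
    · intro χ hχ
      have h := hXs χ (Set.mem_toFinset.1 (Finset.mem_of_mem_erase hχ))
      have h' := (Int.modEq_iff_dvd.1 h.2.1.symm).mul_left (εX χ)
      rcases h.1 with e' | e' <;> rw [e'] at h' ⊢ <;> ring_nf at h' ⊢ <;> exact h'
    · intro θ hθ
      have h := (Int.modEq_iff_dvd.1 (hYd θ (Set.mem_toFinset.1 hθ)).symm).mul_left (-ε)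
      rcases hε with e' | e' <;> simpa [e', mul_sub, add_comm, sub_eq_add_neg] using h
    · exact fun χ hχ => (hXs χ (Set.mem_toFinset.1 (Finset.mem_of_mem_erase hχ))).2.2
    · exact fun θ hθ θ' hθ' => hag θ (Set.mem_toFinset.1 hθ) θ' (Set.mem_toFinset.1 hθ')
    · intro θ hθ g hg
      have h := hrel θ (Set.mem_toFinset.1 hθ) g hg
      rw [finsum_mem_eq_toFinset_sum, ← Finset.add_sum_erase _ _ (Set.mem_toFinset.2 h1), hσ1, oneChar_apply] at h
      push_cast at h ⊢
      linear_combination -h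
  · -- the trivial character is the only member of the family
    have hY1 : Y.toFinset.card = 1 := by
      refine le_antisymm ?_ hYne
      by_contra hlt
      push Not at hlt
      obtain ⟨θ', hθ', hne⟩ := Finset.exists_mem_ne hlt oneChar
      have h := hag θ' (Set.mem_toFinset.1 hθ') _ h1 1 hone
      rw [apply_one (isCharacter_of_irr θ'.2), oneChar_apply, Nat.cast_eq_one] at h
      have := one_lt_degree hG θ' hne
      omega
    have hXne : X.toFinset.Nonempty := Finset.card_pos.1 (hcX ▸ he0)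
    obtain ⟨χ₀, hχ₀⟩ := hXne
    have hεm : ε = -1 := by
      refine hε.resolve_left fun h => ?_
      have h' : (p : ℤ) ∣ (e : ℤ) - 1 := by
        simpa [h, charDegree, oneChar] using Int.modEq_iff_dvd.1 (hYd _ h1)
      rcases Nat.lt_or_ge e 2 with h2 | h2
      · rw [show e = 1 by omega, Nat.div_one] at hcY
        have := hp.two_le
        omega
      · have := Int.le_of_dvd (by omega) h'
        omega
    have hdiv : (p : ℤ) ∣ (e : ℤ) + 1 := by
      have := Int.modEq_iff_dvd.1 (hYd _ h1)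
      rw [hεm, show (charDegree ((oneChar : IrrCharacter G) : G → ℂ) : ℤ) = 1 by simp [charDegree, oneChar]] at this
      have h' := this.neg_right
      rwa [show -(-1 * (e : ℤ) - 1) = e + 1 by ring] at h'
    refine ⟨{ R := X.toFinset.erase χ₀, Y := {χ₀}, σ := εX, δ := εX χ₀,
              disj := by simp, one_notMem := ⟨?_, ?_⟩, block := ?_, card_R := ?_, card_Y := ?_,
              nonempty_Y := Finset.singleton_nonempty _, sign_R := ?_, sign_Y := (hXs χ₀ (Set.mem_toFinset.1 hχ₀)).1,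
              deg_R := ?_, deg_Y := ?_, val_R := ?_, agree := ?_, rel := ?_ }⟩
    · exact fun h => Set.disjoint_left.1 hd (Set.mem_toFinset.1 (Finset.mem_of_mem_erase h)) h1
    · rw [Finset.mem_singleton]; exact fun h => Set.disjoint_left.1 hd (h ▸ Set.mem_toFinset.1 hχ₀) h1
    · intro M' hM' χ hχ
      rw [hblock M' hM'] at hχ
      rcases hχ with hχ | hχ
      · by_cases h : χ = χ₀
        · exact Or.inr (Or.inr (Finset.mem_singleton.2 h))
        · exact Or.inr (Or.inl (Finset.mem_erase.2 ⟨h, Set.mem_toFinset.2 hχ⟩))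
      · exact Or.inl (Finset.card_le_one.1 hY1.le _ (Set.mem_toFinset.2 hχ) _ (Set.mem_toFinset.2 h1))
    · rw [Finset.card_erase_add_one hχ₀, hcX]
    · rw [Finset.card_singleton, ← hcY, hY1]
    · exact fun χ hχ => (hXs χ (Set.mem_toFinset.1 (Finset.mem_of_mem_erase hχ))).1
    · intro χ hχ
      have h := hXs χ (Set.mem_toFinset.1 (Finset.mem_of_mem_erase hχ))
      have h' := (Int.modEq_iff_dvd.1 h.2.1.symm).mul_left (εX χ)
      rcases h.1 with e' | e' <;> rw [e'] at h' ⊢ <;> ring_nf at h' ⊢ <;> exact h'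
    · intro θ hθ
      rw [Finset.mem_singleton] at hθ
      subst hθ
      have h := hXs θ (Set.mem_toFinset.1 hχ₀)
      have h' := (Int.modEq_iff_dvd.1 h.2.1.symm).mul_left (εX θ)
      have h'' := dvd_add h' hdiv
      rcases h.1 with e' | e' <;> rw [e'] at h'' ⊢ <;> ring_nf at h'' ⊢ <;> exact h''
    · exact fun χ hχ => (hXs χ (Set.mem_toFinset.1 (Finset.mem_of_mem_erase hχ))).2.2
    · intro θ hθ θ' hθ'
      rw [Finset.mem_singleton] at hθ hθ'
      subst hθ hθ'
      exact fun g _ => rfl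
    · intro θ hθ g hg
      rw [Finset.mem_singleton] at hθ
      subst hθ
      have h := hrel _ h1 g hg
      rw [finsum_mem_eq_toFinset_sum, ← Finset.add_sum_erase _ _ hχ₀, hεm, oneChar_apply] at h
      push_cast at h
      linear_combination -h

/-- The element `y` inverts a non-identity element of `P`. -/
def Inverts (P : Subgroup G) (y : G) : Prop := ∃ x ∈ P, x ≠ 1 ∧ y * x * y⁻¹ = x⁻¹

/-- Integer form of the principal block. -/
structure BlockData (p e : ℕ) (P : Subgroup G) where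
  n : ℕ
  n_eq : n + 1 = e
  D : Fin n → ℤ
  E : ℤ
  D_spec : ∀ i, 1 < |D i| ∧ D i ∣ (Nat.card G : ℤ) ∧ (p : ℤ) ∣ D i - 1
  E_spec : 1 < |E| ∧ E ∣ (Nat.card G : ℤ) ∧ (p : ℤ) ∣ E + e
  sum : 1 + ∑ i, D i + E = 0
  sq : 1 + ∑ i, D i ^ 2 + ((p - 1) / e : ℕ) * E ^ 2 ≤ (Nat.card G : ℤ)
  invol_full : ∀ y : G, orderOf y = 2 → ∃ (A : Fin n → ℤ) (B : ℤ),
    (∀ i, Valid (D i) (A i)) ∧ Valid E B ∧ 1 + ∑ i, A i + B = 0 ∧
    (y ∈ Subgroup.centralizer (P : Set G) → (∀ i, (p : ℤ) ∣ A i - D i) ∧ (p : ℤ) ∣ B - E) ∧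
    1 + ∑ i, A i ^ 2 + ((p - 1) / e : ℕ) * B ^ 2 ≤ (Nat.card (Subgroup.centralizer ({y} : Set G)) : ℤ) ∧
    (Subgroup.centralizer (P : Set G) = P →
      ((Nat.card G : ℚ) * (1 + ∑ i, (A i : ℚ) ^ 2 / D i + (B : ℚ) ^ 2 / E) =
          (p : ℚ) * (Nat.card (Subgroup.centralizer ({y} : Set G)) : ℚ) ^ 2) ∨
        ((1 + ∑ i, (A i : ℚ) ^ 2 / D i + (B : ℚ) ^ 2 / E) = 0 ∧ ¬ Inverts P y)) ∧
    ∀ i k, 2 ^ k ∣ (D i).natAbs → 0 < k → ¬ 2 ^ (k + 1) ∣ Nat.card G → A i = 0
  D_char : ∀ i, ∃ (χ : IrrCharacter G) (s : ℤ), χ ≠ oneChar ∧ (s = 1 ∨ s = -1) ∧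
    D i = s * charDegree (χ : G → ℂ) ∧ ∀ x ∈ P, x ≠ 1 → ∀ y ∈ Subgroup.centralizer (P : Set G),
      ¬ p ∣ orderOf y → (χ : G → ℂ) (x * y) = (s : ℂ)
  E_char : ∃ (χ : IrrCharacter G), χ ≠ oneChar ∧ E.natAbs = charDegree (χ : G → ℂ)

/-- The data at an involution. -/
theorem BlockData.invol {p e : ℕ} {P : Subgroup G} (B : BlockData (G := G) p e P) (y : G) (hy : orderOf y = 2) :
    ∃ (A : Fin B.n → ℤ) (b : ℤ),
    (∀ i, Valid (B.D i) (A i)) ∧ Valid B.E b ∧ 1 + ∑ i, A i + b = 0 ∧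
    (y ∈ Subgroup.centralizer (P : Set G) → (∀ i, (p : ℤ) ∣ A i - B.D i) ∧ (p : ℤ) ∣ b - B.E) ∧
    1 + ∑ i, A i ^ 2 + ((p - 1) / e : ℕ) * b ^ 2 ≤ (Nat.card (Subgroup.centralizer ({y} : Set G)) : ℤ) ∧
    (Subgroup.centralizer (P : Set G) = P →
      ((Nat.card G : ℚ) * (1 + ∑ i, (A i : ℚ) ^ 2 / B.D i + (b : ℚ) ^ 2 / B.E) =
          (p : ℚ) * (Nat.card (Subgroup.centralizer ({y} : Set G)) : ℚ) ^ 2) ∨
        ((1 + ∑ i, (A i : ℚ) ^ 2 / B.D i + (b : ℚ) ^ 2 / B.E) = 0 ∧ ¬ Inverts P y)) := by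
  obtain ⟨A, b, h1, h2, h3, h4, h5, h6, -⟩ := B.invol_full y hy
  exact ⟨A, b, h1, h2, h3, h4, h5, h6⟩

/-- A character of full two-power degree vanishes at the involutions. -/
theorem apply_eq_zero_of_two_pow_dvd (χ : IrrCharacter G) {k : ℕ} (hk : 0 < k) (hd : 2 ^ k ∣ charDegree (χ : G → ℂ))
    (hG : ¬ 2 ^ (k + 1) ∣ Nat.card G) {y : G} (hy : 2 ∣ orderOf y) : (χ : G → ℂ) y = 0 := by
  haveI := Fintype.ofFinite G
  have hdvd := hd.trans (degree_dvd χ)
  obtain ⟨n, ρ, hρ, h⟩ := χ.2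
  haveI := hρ
  rw [← h] at hd ⊢
  rw [charDegree_rep] at hd
  exact Cfsg.Agent.S0165.result ρ 2 k Nat.prime_two hdvd hG hd y hy

theorem exists_blockData [IsSimpleGroup G] (hG : ¬ IsMulCommutative G) {p : ℕ} [Fact p.Prime]
    (hp2 : p ≠ 2) (P : Sylow p G) (hP : Nat.card P = p) {e : ℕ}
    (he : (Subgroup.centralizer ((P : Subgroup G) : Set G)).relIndex (Subgroup.normalizer ((P : Subgroup G) : Set G)) = e) :
    Nonempty (BlockData (G := G) p e (P : Subgroup G)) := by
  classical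
  haveI := Fintype.ofFinite G
  haveI := Fintype.ofFinite (IrrCharacter G)
  have hp : p.Prime := Fact.out
  obtain ⟨S⟩ := exists_split hG hp2 P hP he
  obtain ⟨θ₀, hθ₀⟩ := S.nonempty_Y
  set φ := S.R.equivFin.symm
  have hsumR : ∀ {β : Type} [AddCommMonoid β] (g : IrrCharacter G → β),
      ∑ i, g (φ i) = ∑ χ ∈ S.R, g χ := fun g => by
    rw [← Finset.sum_coe_sort S.R g]
    exact Equiv.sum_comp φ (fun x : S.R => g x)
  set f := charDegree (θ₀ : G → ℂ)
  have hone : ¬ p ∣ orderOf (1 : G) := by rw [orderOf_one]; exact hp.not_dvd_one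
  have hne : ∀ χ ∈ S.R ∪ S.Y, χ ≠ oneChar := fun χ hχ e => by
    subst e; rcases Finset.mem_union.1 hχ with h | h
    · exact S.one_notMem.1 h
    · exact S.one_notMem.2 h
  have habs : ∀ {s : ℤ} (d : ℕ), (s = 1 ∨ s = -1) → |s * d| = d := fun d hs => by
    rcases hs with rfl | rfl <;> simp
  have hdeg : ∀ θ ∈ S.Y, charDegree (θ : G → ℂ) = f := fun θ hθ => by
    have h := S.agree θ hθ θ₀ hθ₀ 1 hone
    rw [apply_one (isCharacter_of_irr θ.2), apply_one (isCharacter_of_irr θ₀.2)] at h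
    exact_mod_cast h
  have hrel1 : 1 + ∑ χ ∈ S.R, S.σ χ * charDegree (χ : G → ℂ) + S.δ * f = 0 := by
    have h := S.rel θ₀ hθ₀ 1 hone
    rw [Finset.sum_congr rfl fun χ (_ : χ ∈ S.R) => by rw [apply_one (isCharacter_of_irr χ.2)],
      apply_one (isCharacter_of_irr θ₀.2)] at h
    exact_mod_cast h
  have hsubset : Disjoint S.R S.Y := S.disj
  have hnotin : oneChar ∉ S.R ∪ S.Y := fun h => hne _ h rfl
  refine ⟨{ n := S.R.card, n_eq := S.card_R, D := fun i => S.σ (φ i) * charDegree ((φ i : IrrCharacter G) : G → ℂ),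
            E := S.δ * f, D_spec := ?_, E_spec := ?_, sum := ?_, sq := ?_, invol_full := ?_,
            D_char := fun i => ⟨φ i, _, hne _ (Finset.mem_union_left _ (φ i).2), S.sign_R _ (φ i).2, rfl,
              S.val_R _ (φ i).2⟩,
            E_char := ⟨θ₀, hne _ (Finset.mem_union_right _ hθ₀), by
              rcases S.sign_Y with e | e <;> rw [e] <;> simp [f]⟩ }⟩
  · intro i
    refine ⟨?_, ?_, S.deg_R _ (φ i).2⟩
    · rw [habs _ (S.sign_R _ (φ i).2)]
      exact_mod_cast one_lt_degree hG _ (hne _ (Finset.mem_union_left _ (φ i).2))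
    · rw [← abs_dvd, habs _ (S.sign_R _ (φ i).2), Int.natCast_dvd_natCast]
      exact degree_dvd _
  · refine ⟨?_, ?_, S.deg_Y _ hθ₀⟩
    · rw [habs _ S.sign_Y]; exact_mod_cast one_lt_degree hG _ (hne _ (Finset.mem_union_right _ hθ₀))
    · rw [← abs_dvd, habs _ S.sign_Y, Int.natCast_dvd_natCast]
      exact degree_dvd _
  · rw [hsumR (fun χ => S.σ χ * (charDegree (χ : G → ℂ) : ℤ))]; exact hrel1
  · rw [hsumR (fun χ => (S.σ χ * (charDegree (χ : G → ℂ) : ℤ)) ^ 2), ← S.card_Y]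
    have h := sum_sq_degree (G := G)
    have h2 : ∑ χ ∈ insert oneChar (S.R ∪ S.Y), charDegree (χ : G → ℂ) ^ 2 ≤ Nat.card G :=
      h ▸ Finset.sum_le_univ_sum_of_nonneg fun χ => Nat.zero_le _
    rw [Finset.sum_insert hnotin, Finset.sum_union hsubset,
      Finset.sum_congr rfl fun θ (hθ : θ ∈ S.Y) => by rw [hdeg θ hθ],
      Finset.sum_const, smul_eq_mul, show charDegree ((oneChar : IrrCharacter G) : G → ℂ) = 1 by simp [charDegree, oneChar],
      one_pow, ← add_assoc] at h2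
    have e1 : ∑ χ ∈ S.R, (S.σ χ * (charDegree (χ : G → ℂ) : ℤ)) ^ 2 = ∑ χ ∈ S.R, (charDegree (χ : G → ℂ) : ℤ) ^ 2 :=
      Finset.sum_congr rfl fun χ hχ => by rcases S.sign_R χ hχ with e | e <;> rw [e] <;> ring
    have e2 : (S.δ * (f : ℤ)) ^ 2 = (f : ℤ) ^ 2 := by rcases S.sign_Y with e | e <;> rw [e] <;> ring
    rw [e1, e2]
    exact_mod_cast h2
  · intro y hy
    have hyr : ¬ p ∣ orderOf y := by rw [hy]; exact fun h => hp2 ((Nat.prime_dvd_prime_iff_eq hp Nat.prime_two).1 h)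
    choose! a ha using fun χ (h : χ ∈ S.R ∪ S.Y) => exists_involution_value hG χ (hne χ h) hy
    have hvalid : ∀ χ ∈ S.R ∪ S.Y, ∀ s : ℤ, (s = 1 ∨ s = -1) → Valid (s * charDegree (χ : G → ℂ)) (s * a χ) := by
      intro χ hχ s hs
      obtain ⟨-, h1, h2⟩ := ha χ hχ
      refine ⟨?_, ?_⟩
      · rw [habs _ hs]; rcases hs with rfl | rfl <;> simpa using h1
      · rw [← mul_sub]; exact h2.mul_left _
    have hrely : 1 + ∑ χ ∈ S.R, S.σ χ * a χ + S.δ * a θ₀ = 0 := by
      have h := S.rel θ₀ hθ₀ y hyr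
      rw [Finset.sum_congr rfl fun χ (hχ : χ ∈ S.R) => by rw [(ha χ (Finset.mem_union_left _ hχ)).1],
        (ha θ₀ (Finset.mem_union_right _ hθ₀)).1] at h
      exact_mod_cast h
    have haY : ∀ θ ∈ S.Y, a θ = a θ₀ := fun θ hθ => by
      have h := S.agree θ hθ θ₀ hθ₀ y hyr
      rw [(ha θ (Finset.mem_union_right _ hθ)).1, (ha θ₀ (Finset.mem_union_right _ hθ₀)).1] at h
      exact_mod_cast h
    refine ⟨fun i => S.σ (φ i) * a (φ i), S.δ * a θ₀,
      fun i => hvalid _ (Finset.mem_union_left _ (φ i).2) _ (S.sign_R _ (φ i).2),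
      hvalid _ (Finset.mem_union_right _ hθ₀) _ S.sign_Y, ?_, ?_, ?_, ?_, ?_⟩
    · rw [hsumR (fun χ => S.σ χ * a χ)]; exact hrely
    · intro hyC
      have hR : ∀ χ ∈ S.R, (p : ℤ) ∣ S.σ χ * a χ - S.σ χ * charDegree (χ : G → ℂ) := by
        intro χ hχ
        obtain ⟨⟨x, hxP⟩, hx⟩ : ∃ x : (P : Subgroup G), x ≠ 1 := by
          haveI : Nontrivial (P : Subgroup G) := Finite.one_lt_card_iff_nontrivial.1 (by rw [hP]; exact hp.one_lt)
          exact exists_ne 1
        have hox : orderOf x = p := by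
          refine orderOf_eq_prime ?_ fun e => hx (Subtype.ext e)
          have := pow_card_eq_one' (x := (⟨x, hxP⟩ : (P : Subgroup G)))
          rw [hP] at this
          exact congrArg Subtype.val this
        rw [← mul_sub]
        refine (value_congr hp hp2 (isCharacter_of_irr χ.2) hox hy
          ((Subgroup.mem_centralizer_iff.1 hyC) x hxP) (ha χ (Finset.mem_union_left _ hχ)).1
          (s := S.σ χ) (fun j hj => ?_) ?_).mul_left _
        · have hxj : x ^ j ≠ 1 := fun e => hj (hox ▸ orderOf_dvd_of_pow_eq_one e)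
          refine ⟨?_, S.val_R χ hχ _ (pow_mem hxP j) hxj y hyC hyr⟩
          simpa using S.val_R χ hχ _ (pow_mem hxP j) hxj 1 (Subgroup.one_mem _) hone
        · have h := (S.deg_R χ hχ).mul_left (S.σ χ)
          rcases S.sign_R χ hχ with e | e <;> rw [e] at h ⊢ <;> ring_nf at h ⊢ <;> exact h
      refine ⟨fun i => hR _ (φ i).2, ?_⟩
      have e1 : S.δ * a θ₀ - S.δ * f = -∑ χ ∈ S.R, (S.σ χ * a χ - S.σ χ * charDegree (χ : G → ℂ)) := by
        rw [Finset.sum_sub_distrib]; linear_combination hrely - hrel1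
      rw [e1]
      exact (Finset.dvd_sum hR).neg_right
    · rw [hsumR (fun χ => (S.σ χ * a χ) ^ 2), ← S.card_Y]
      have h := sum_normSq_col (G := G) y
      have h2 : ∑ χ ∈ insert oneChar (S.R ∪ S.Y), ‖(χ : G → ℂ) y‖ ^ 2 ≤
          (Nat.card (Subgroup.centralizer ({y} : Set G)) : ℝ) :=
        h ▸ Finset.sum_le_univ_sum_of_nonneg fun χ => by positivity
      rw [Finset.sum_insert hnotin, Finset.sum_union hsubset,
        Finset.sum_congr rfl fun χ (hχ : χ ∈ S.R) => by
          rw [(ha χ (Finset.mem_union_left _ hχ)).1, Complex.norm_intCast, sq_abs],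
        Finset.sum_congr rfl fun θ (hθ : θ ∈ S.Y) => by
          rw [(ha θ (Finset.mem_union_right _ hθ)).1, haY θ hθ, Complex.norm_intCast, sq_abs],
        Finset.sum_const, nsmul_eq_mul, oneChar_apply, norm_one, one_pow, ← add_assoc] at h2
      have e1 : ∑ χ ∈ S.R, (S.σ χ * a χ) ^ 2 = ∑ χ ∈ S.R, a χ ^ 2 :=
        Finset.sum_congr rfl fun χ hχ => by rcases S.sign_R χ hχ with e | e <;> rw [e] <;> ring
      have e2 : (S.δ * a θ₀) ^ 2 = a θ₀ ^ 2 := by rcases S.sign_Y with e | e <;> rw [e] <;> ring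
      rw [e1, e2]
      exact_mod_cast h2
    · intro hCP
      obtain ⟨⟨x, hxP⟩, hx⟩ : ∃ x : (P : Subgroup G), x ≠ 1 := by
        haveI : Nontrivial (P : Subgroup G) := Finite.one_lt_card_iff_nontrivial.1 (by rw [hP]; exact hp.one_lt)
        exact exists_ne 1
      have hxne : x ≠ 1 := fun e => hx (Subtype.ext e)
      obtain ⟨D, hD⟩ := DefectOne.exists_data P hP
      have hxz : Subgroup.zpowers x = (P : Subgroup G) := by
        refine Subgroup.eq_of_le_of_card_ge (Subgroup.zpowers_le.2 hxP) ?_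
        rw [Nat.card_zpowers, hP, orderOf_eq_prime (p := p) ?_ hxne]
        have := pow_card_eq_one' (x := (⟨x, hxP⟩ : (P : Subgroup G)))
        rw [hP] at this
        exact congrArg Subtype.val this
      have hox : orderOf x = p := by rw [← Nat.card_zpowers, hxz, hP]
      have hCx : Subgroup.centralizer ({x} : Set G) = Subgroup.zpowers x := by
        rw [← Subgroup.centralizer_closure, ← Subgroup.zpowers_eq_closure, hxz, hCP]
      haveI : Subsingleton D.V := by
        refine (Nat.card_eq_one_iff_unique.1 ?_).1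
        have h := D.card_centralizer
        rw [hD, hCP, hP] at h
        exact (Nat.mul_eq_left hp.ne_zero).1 h.symm
      obtain ⟨M, hM⟩ := Blocks.exists_modular hp
      have hvanish : ∀ χ : IrrCharacter G, χ ∉ insert oneChar (S.R ∪ S.Y) → (χ : G → ℂ) x = 0 := by
        intro χ hχ
        refine D.vanish_of_not_blk (fun φ hφ => ?_) (by rw [hox])
        have hφ1 : φ = D.one := Subtype.ext (funext fun v => by
          rw [D.one_apply, Subsingleton.elim v 1, apply_one (isCharacter_of_irr φ.2)]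
          haveI : IsMulCommutative D.V := ⟨⟨fun _ _ => Subsingleton.elim _ _⟩⟩
          rw [charDegree_comm φ.2, Nat.cast_one])
        subst hφ1
        rw [← D.principalBlock_eq hM] at hφ
        rcases S.block M hM χ hφ with h | h | h
        · exact hχ (h ▸ Finset.mem_insert_self _ _)
        · exact hχ (Finset.mem_insert_of_mem (Finset.mem_union_left _ h))
        · exact hχ (Finset.mem_insert_of_mem (Finset.mem_union_right _ h))
      have hxR : ∀ χ ∈ S.R, (χ : G → ℂ) x = (S.σ χ : ℂ) := fun χ hχ => by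
        simpa using S.val_R χ hχ x hxP hxne 1 (Subgroup.one_mem _) hone
      have hexp : ∀ g : IrrCharacter G → ℂ, (∀ χ, χ ∉ insert oneChar (S.R ∪ S.Y) → g χ = 0) →
          ∑ χ, g χ = g oneChar + ∑ χ ∈ S.R, g χ + ∑ χ ∈ S.Y, g χ := fun g hg => by
        rw [← Finset.sum_subset (Finset.subset_univ (insert oneChar (S.R ∪ S.Y))) fun χ _ h => hg χ h,
          Finset.sum_insert hnotin, Finset.sum_union hsubset, add_assoc]
      have hY : ∑ θ ∈ S.Y, (θ : G → ℂ) x = (S.δ : ℂ) := by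
        have h := sum_mul_degree (G := G) hxne
        rw [hexp _ (fun χ hχ => by rw [hvanish χ hχ, mul_zero]), oneChar_apply,
          show (charDegree ((oneChar : IrrCharacter G) : G → ℂ) : ℂ) = 1 by simp [charDegree, oneChar],
          Finset.sum_congr rfl fun χ (hχ : χ ∈ S.R) => by rw [hxR χ hχ],
          Finset.sum_congr rfl fun θ (hθ : θ ∈ S.Y) => by rw [hdeg θ hθ], ← Finset.mul_sum] at h
        have h1 : (1 : ℂ) + ∑ χ ∈ S.R, (S.σ χ : ℂ) * (charDegree (χ : G → ℂ) : ℂ) + (S.δ : ℂ) * f = 0 := by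
          exact_mod_cast congrArg (fun z : ℤ => (z : ℂ)) hrel1
        have hc : ∀ χ : IrrCharacter G, (charDegree (χ : G → ℂ) : ℂ) * (S.σ χ : ℂ) =
            (S.σ χ : ℂ) * (charDegree (χ : G → ℂ) : ℂ) := fun χ => mul_comm _ _
        simp only [hc] at h
        refine mul_left_cancel₀ (Nat.cast_ne_zero.2 (charDegree_pos θ₀.2).ne' : (f : ℂ) ≠ 0) ?_
        linear_combination h - h1
      obtain ⟨M', hM', hcM⟩ := structure_constant (G := G) y x
      have hV : ∑ χ : IrrCharacter G, (χ : G → ℂ) y * conj ((χ : G → ℂ) y) * (χ : G → ℂ) x / (χ : G → ℂ) 1 =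
          ((1 + ∑ χ ∈ S.R, ((S.σ χ * a χ : ℤ) : ℚ) ^ 2 / ((S.σ χ * charDegree (χ : G → ℂ) : ℤ) : ℚ) +
            ((S.δ * a θ₀ : ℤ) : ℚ) ^ 2 / ((S.δ * f : ℤ) : ℚ) : ℚ) : ℂ) := by
        rw [hexp _ (fun χ hχ => by rw [hvanish χ hχ, mul_zero, zero_div])]
        simp only [oneChar_apply, map_one, mul_one, div_one]
        rw [Finset.sum_congr rfl fun χ (hχ : χ ∈ S.R) => by
            rw [(ha χ (Finset.mem_union_left _ hχ)).1, map_intCast, hxR χ hχ,
              apply_one (isCharacter_of_irr χ.2)],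
          Finset.sum_congr rfl fun θ (hθ : θ ∈ S.Y) => by
            rw [(ha θ (Finset.mem_union_right _ hθ)).1, haY θ hθ, map_intCast,
              apply_one (isCharacter_of_irr θ.2), hdeg θ hθ],
          ← Finset.sum_div, ← Finset.mul_sum, hY]
        push_cast
        congr 1
        · congr 1
          refine Finset.sum_congr rfl fun χ hχ => ?_
          rcases S.sign_R χ hχ with e | e <;> rw [e] <;> push_cast <;> ring
        · rcases S.sign_Y with e | e <;> rw [e] <;> push_cast <;> ring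
      rw [hV] at hcM
      rw [hsumR (fun χ => ((S.σ χ * a χ : ℤ) : ℚ) ^ 2 / ((S.σ χ * charDegree (χ : G → ℂ) : ℤ) : ℚ))]
      generalize (1 + ∑ χ ∈ S.R, ((S.σ χ * a χ : ℤ) : ℚ) ^ 2 / ((S.σ χ * charDegree (χ : G → ℂ) : ℤ) : ℚ) +
          ((S.δ * a θ₀ : ℤ) : ℚ) ^ 2 / ((S.δ * f : ℤ) : ℚ) : ℚ) = V at hcM ⊢
      have hQ : (Nat.card (Subgroup.centralizer ({y} : Set G)) : ℚ) * M' = (Nat.card G : ℚ) * V := by
        exact_mod_cast hcM
      rcases card_structure_set hp hp2 hox hCx hy with h0 | h0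
      · right
        refine ⟨?_, ?_⟩
        · rw [hM', h0, Nat.cast_zero, mul_zero] at hQ
          exact (mul_eq_zero.1 hQ.symm).resolve_left (Nat.cast_ne_zero.2 Nat.card_pos.ne')
        · rintro ⟨z, hz, hz1, hzi⟩
          -- `y` inverts every element of `P`, so `y * x` is conjugate to `y`
          have hyy : y * y = 1 := by rw [← sq, ← hy]; exact pow_orderOf_eq_one y
          have hzz : Subgroup.zpowers z = (P : Subgroup G) := by
            refine Subgroup.eq_of_le_of_card_ge (Subgroup.zpowers_le.2 hz) ?_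
            rw [Nat.card_zpowers, hP, orderOf_eq_prime (p := p) ?_ hz1]
            have := pow_card_eq_one' (x := (⟨z, hz⟩ : (P : Subgroup G)))
            rw [hP] at this
            exact congrArg Subtype.val this
          have hxi : y * x * y⁻¹ = x⁻¹ := by
            obtain ⟨k, rfl⟩ := Subgroup.mem_zpowers_iff.1 (hzz ▸ hxP : x ∈ Subgroup.zpowers z)
            rw [← conj_zpow, hzi, inv_zpow]
          obtain ⟨r, hr⟩ := exists_pow_eq_self_of_coprime (x := x) (n := 2)
            (by rw [hox]; exact Nat.coprime_two_left.2 (hp.odd_of_ne_two hp2))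
          have hconj : (x ^ r)⁻¹ * y * x ^ r = y * x := by
            have h1 : y * x ^ r * y⁻¹ = (x ^ r)⁻¹ := by rw [← conj_pow, hxi, inv_pow]
            rw [← h1, inv_eq_of_mul_eq_one_right hyy,
              show y * x ^ r * y * y * x ^ r = y * (x ^ r * x ^ r) by
                rw [mul_assoc (y * x ^ r) y y, hyy, mul_one, mul_assoc],
              ← pow_add, ← two_mul, pow_mul, hr]
          have : IsEmpty {g : G // IsConj (g * y * g⁻¹ * x) y} :=
            (Finite.card_eq_zero_iff).1 h0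
          exact this.false ⟨1, by
            rw [one_mul, inv_one, mul_one, ← hconj]
            exact (isConj_iff.2 ⟨(x ^ r)⁻¹, by rw [inv_inv]⟩).symm⟩
      · left
        rw [hM', h0] at hQ
        push_cast at hQ
        rw [← hQ]; ring
    · intro i k hk hk0 hG2
      have hdeg2 : 2 ^ k ∣ charDegree ((φ i : IrrCharacter G) : G → ℂ) := by
        rcases S.sign_R _ (φ i).2 with e | e <;> rw [e] at hk <;> simpa using hk
      have h0 := apply_eq_zero_of_two_pow_dvd _ hk0 hdeg2 hG2 (y := y) (by rw [hy])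
      rw [(ha _ (Finset.mem_union_left _ (φ i).2)).1, Int.cast_eq_zero] at h0
      show S.σ _ * a _ = 0
      rw [h0, mul_zero]

theorem exists_inverting {p : ℕ} [Fact p.Prime] (hp2 : p ≠ 2) (P : Sylow p G) (hP : Nat.card P = p)
    (hCP : Subgroup.centralizer ((P : Subgroup G) : Set G) = P)
    (hev : 2 ∣ Nat.card (Subgroup.normalizer ((P : Subgroup G) : Set G))) :
    ∃ y : G, orderOf y = 2 ∧ Inverts (P : Subgroup G) y := by
  haveI : Fact (Nat.Prime 2) := ⟨Nat.prime_two⟩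
  have hp : p.Prime := Fact.out
  obtain ⟨⟨y, hyN⟩, hy⟩ := exists_prime_orderOf_dvd_card' 2 hev
  rw [Subgroup.orderOf_mk] at hy
  refine ⟨y, hy, ?_⟩
  have hyy : y * y = 1 := by rw [← sq, ← hy]; exact pow_orderOf_eq_one y
  have hyinv : y⁻¹ = y := inv_eq_of_mul_eq_one_right hyy
  haveI : Nontrivial (P : Subgroup G) := Finite.one_lt_card_iff_nontrivial.1 (by rw [hP]; exact hp.one_lt)
  obtain ⟨⟨x, hx⟩, hx1⟩ := exists_ne (1 : (P : Subgroup G))
  have hcomm : ∀ a ∈ (P : Subgroup G), ∀ b ∈ (P : Subgroup G), a * b = b * a := fun a ha b hb => by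
    haveI := isCyclic_of_prime_card (α := (P : Subgroup G)) hP
    exact congrArg Subtype.val (IsCyclic.isMulCommutative.is_comm.comm (⟨a, ha⟩ : (P : Subgroup G)) ⟨b, hb⟩)
  have hyP : y ∉ (P : Subgroup G) := fun h => by
    have h2 := Subgroup.orderOf_dvd_natCard _ h
    rw [hy, hP] at h2
    exact hp2 ((Nat.prime_dvd_prime_iff_eq Nat.prime_two hp).1 h2).symm
  by_contra hno
  apply hyP
  rw [← hCP, Subgroup.mem_centralizer_iff]
  intro z hz
  have hm : y * z * y⁻¹ ∈ (P : Subgroup G) := (Subgroup.mem_normalizer_iff.1 hyN z).1 hz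
  by_contra hne
  refine hno ⟨(y * z * y⁻¹) * z⁻¹, mul_mem hm (inv_mem hz), fun e => hne ?_, ?_⟩
  · rw [mul_inv_eq_one, mul_inv_eq_iff_eq_mul] at e
    exact e.symm
  · calc y * (y * z * y⁻¹ * z⁻¹) * y⁻¹ = (y * y) * z * (y⁻¹ * z⁻¹ * y⁻¹) := by group
      _ = z * (y * z⁻¹ * y⁻¹) := by rw [hyy, one_mul, hyinv]
      _ = (y * z * y⁻¹ * z⁻¹)⁻¹ := by group

end CfsgLib.SmallOrd
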