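import Cfsg.Agent.SmallOrders.Basic
import Cfsg.Agent.SmallOrders.BlockData

/-!
Normalisers and centralisers of Sylow subgroups of prime order in simple groups, and small searches.
-/

set_option autoImplicit false
set_option linter.style.haveILetI false

namespace CfsgLib.SmallOrd

universe u

variable {G : Type u} [Group G] [Finite G]

/-- The candidates for the number of Sylow subgroups. -/
theorem mem_list {m p n : ℕ} (hm : m ≠ 0) (h : n ∣ m) (h' : n % p = 1) (hn : n ≠ 1) :
    n ∈ (List.range (m + 1)).filter (fun d => decide (d ∣ m ∧ d % p = 1 ∧ d ≠ 1)) := by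
  simp only [List.mem_filter, List.mem_range, decide_eq_true_eq]
  exact ⟨Nat.lt_succ_of_le (Nat.le_of_dvd (Nat.pos_of_ne_zero hm) h), h, h', hn⟩

/-- The signed degrees allowed for a Sylow subgroup of order `p` in a group of order at most `b ^ 2`. -/
def cands (N p b : ℕ) : List ℤ :=
  ((List.range (2 * b + 1)).map fun k : ℕ => (k : ℤ) - b).filter fun D : ℤ =>
    decide (D.natAbs ∣ N ∧ 1 < D.natAbs ∧ (D - 1) % (p : ℤ) = 0)

theorem mem_cands {N p b : ℕ} {D : ℤ} (hb : N < (b + 1) ^ 2) (h : 1 < |D|) (hd : D ∣ (N : ℤ))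
    (hp : (p : ℤ) ∣ D - 1) (hsq : D ^ 2 ≤ (N : ℤ)) : D ∈ cands N p b := by
  have hab : |D| ≤ b := by
    by_contra hlt
    push Not at hlt
    have h1 : ((b : ℤ) + 1) ^ 2 ≤ |D| ^ 2 := pow_le_pow_left₀ (by positivity) hlt 2
    rw [sq_abs] at h1
    have h2 : ((N : ℤ)) < ((b : ℤ) + 1) ^ 2 := by exact_mod_cast hb
    omega
  have hl := abs_le.1 hab
  simp only [cands, List.mem_filter, List.mem_map, List.mem_range, decide_eq_true_eq]
  refine ⟨⟨(D + b).toNat, by omega, by omega⟩, ?_, ?_, Int.emod_eq_zero_of_dvd hp⟩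
  · exact Int.natCast_dvd_natCast.1 (Int.natAbs_dvd.2 hd)
  · rw [Int.abs_eq_natAbs] at h; exact_mod_cast h

/-- The values at an involution allowed for a signed degree. -/
def avals (D : ℤ) : List ℤ :=
  ((List.range (2 * D.natAbs + 1)).map fun k : ℕ => (k : ℤ) - D.natAbs).filter fun A : ℤ =>
    decide (A.natAbs < D.natAbs ∧ (A - D) % 4 = 0)

theorem mem_avals {D A : ℤ} (h : Valid D A) : A ∈ avals D := by
  obtain ⟨h1, h2⟩ := h
  rw [Int.abs_eq_natAbs, Int.abs_eq_natAbs] at h1
  simp only [avals, List.mem_filter, List.mem_map, List.mem_range, decide_eq_true_eq]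
  refine ⟨⟨(A + D.natAbs).toNat, by omega, by omega⟩, by omega, Int.emod_eq_zero_of_dvd h2⟩

/-- The local parameters at a Sylow subgroup of prime order. -/
structure LocalData (p : ℕ) (P : Subgroup G) where
  n : ℕ
  N : ℕ
  C : ℕ
  e : ℕ
  hn : n = (Subgroup.normalizer (P : Set G)).index
  hN : N = Nat.card (Subgroup.normalizer (P : Set G))
  hC : C = Nat.card (Subgroup.centralizer (P : Set G))
  he : (Subgroup.centralizer (P : Set G)).relIndex (Subgroup.normalizer (P : Set G)) = e
  n_mul : n * N = Nat.card G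
  n_mod : n % p = 1
  n_ne : n ≠ 1
  e_mul : e * C = N
  e_dvd : e ∣ p - 1
  e_ne : e ≠ 1
  p_dvd : p ∣ C

theorem exists_localData [IsSimpleGroup G] {p : ℕ} [Fact p.Prime] (P : Sylow p G) (hP : Nat.card P = p)
    (hne : Nat.card G ≠ p) : Nonempty (LocalData (G := G) p (P : Subgroup G)) := by
  have hp : p.Prime := Fact.out
  have h0 : (P : Subgroup G) ≠ ⊥ := fun h => by rw [h, Subgroup.card_bot] at hP; exact hp.one_lt.ne hP
  have ht : (P : Subgroup G) ≠ ⊤ := fun h => by rw [h, Subgroup.card_top] at hP; exact hne hP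
  obtain ⟨-, h1, h2, h3, h4⟩ := sylow_data P h0 ht
  have hcn : Subgroup.centralizer ((P : Subgroup G) : Set G) ≤ Subgroup.normalizer ((P : Subgroup G) : Set G) :=
    Subgroup.centralizer_le_normalizer _
  haveI : IsCyclic (P : Subgroup G) := isCyclic_of_prime_card hP
  haveI : IsMulCommutative (P : Subgroup G) := IsCyclic.isMulCommutative
  refine ⟨{ n := _, N := _, C := _, e := _, hn := rfl, hN := rfl, hC := rfl, he := rfl,
            n_mul := by rw [← h3]; exact h4, n_mod := by rw [← h3]; exact h2, n_ne := by rw [← h3]; exact h1,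
            e_mul := ?_, e_dvd := ?_, e_ne := ?_, p_dvd := ?_ }⟩
  · have := Subgroup.card_mul_index ((Subgroup.centralizer ((P : Subgroup G) : Set G)).subgroupOf
      (Subgroup.normalizer ((P : Subgroup G) : Set G)))
    rw [Nat.card_congr (Subgroup.subgroupOfEquivOfLe hcn).toEquiv, mul_comm] at this
    exact this
  · have key := Subgroup.card_dvd_of_injective _
      (QuotientGroup.kerLift_injective (P : Subgroup G).normalizerMonoidHom)
    rw [Subgroup.normalizerMonoidHom_ker, IsCyclic.card_mulAut, hP, Nat.totient_prime hp] at key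
    exact key
  · exact fun h => not_normalizer_le_centralizer P h0 ht (Subgroup.relIndex_eq_one.1 h)
  · have := Subgroup.card_dvd_of_le (P : Subgroup G).le_centralizer
    rwa [hP] at this

theorem LocalData.index_le [IsSimpleGroup G] (hG : ¬ IsMulCommutative G) {p : ℕ} {P : Subgroup G}
    (L : LocalData (G := G) p P) : 2 * Nat.card G ∣ L.n.factorial := by
  have hn : (Subgroup.normalizer (P : Set G)) ≠ ⊤ := fun h => L.n_ne (by rw [L.hn, h, Subgroup.index_top])
  rw [L.hn]
  exact two_mul_card_dvd_factorial hG _ hn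

/-- The centraliser of a subgroup of prime order does not have prime power index. -/
theorem centralizer_index_ne [IsSimpleGroup G] {p : ℕ} [Fact p.Prime] (P : Subgroup G) (hP : Nat.card P = p)
    {r a : ℕ} (hr : r.Prime) (ha : 0 < a) : (Subgroup.centralizer (P : Set G)).index ≠ r ^ a := by
  intro h
  haveI : IsCyclic P := isCyclic_of_prime_card hP
  obtain ⟨g, hg⟩ := IsCyclic.exists_generator (α := P)
  have hz : Subgroup.zpowers (g : G) = P := by
    refine le_antisymm (Subgroup.zpowers_le.2 g.2) fun x hx => ?_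
    obtain ⟨k, hk⟩ := Subgroup.mem_zpowers_iff.1 (hg ⟨x, hx⟩)
    exact Subgroup.mem_zpowers_iff.2 ⟨k, congrArg Subtype.val hk⟩
  refine CfsgLib.CharBasics.not_isSimpleGroup_of_class_prime_pow hr (g : G) ?_ ha inferInstance
  rw [← Subgroup.centralizer_closure, ← Subgroup.zpowers_eq_closure, hz, h]

theorem exists_involution_centralizing {P : Subgroup G} (h : 2 ∣ Nat.card (Subgroup.centralizer (P : Set G))) :
    ∃ y : G, orderOf y = 2 ∧ y ∈ Subgroup.centralizer (P : Set G) := by
  haveI : Fact (Nat.Prime 2) := ⟨Nat.prime_two⟩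
  obtain ⟨⟨y, hy⟩, hy2⟩ := exists_prime_orderOf_dvd_card' 2 h
  rw [Subgroup.orderOf_mk] at hy2
  exact ⟨y, hy2, hy⟩

/-- An involution in the centre of a Sylow `2`-subgroup. -/
theorem exists_central_involution (h : 2 ∣ Nat.card G) :
    ∃ y : G, orderOf y = 2 ∧
      2 ^ (Nat.card G).factorization 2 ∣ Nat.card (Subgroup.centralizer ({y} : Set G)) := by
  haveI : Fact (Nat.Prime 2) := ⟨Nat.prime_two⟩
  obtain ⟨T⟩ : Nonempty (Sylow 2 G) := inferInstance
  have hT := T.card_eq_multiplicity
  haveI : Nontrivial (T : Subgroup G) := by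
    rw [← Finite.one_lt_card_iff_nontrivial, hT]
    exact Nat.one_lt_pow (Nat.pos_iff_ne_zero.1 ((Nat.prime_two.dvd_iff_one_le_factorization Nat.card_pos.ne').1 h)) one_lt_two
  haveI := T.isPGroup'.center_nontrivial
  obtain ⟨z, hz⟩ := exists_prime_orderOf_dvd_card' (G := Subgroup.center (T : Subgroup G)) 2 (by
    obtain ⟨k, hk⟩ := (T.isPGroup'.to_subgroup (Subgroup.center (T : Subgroup G))).exists_card_eq
    rw [hk]
    refine dvd_pow_self 2 fun h0 => ?_
    rw [h0, pow_zero] at hk
    exact (Finite.one_lt_card (α := Subgroup.center (T : Subgroup G))).ne' hk)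
  refine ⟨((z : (T : Subgroup G)) : G), by rw [Subgroup.orderOf_coe, Subgroup.orderOf_coe, hz], ?_⟩
  rw [← hT]
  refine Subgroup.card_dvd_of_le fun x hx => ?_
  rw [Subgroup.mem_centralizer_singleton_iff]
  exact congrArg Subtype.val (Subgroup.mem_center_iff.1 z.2 ⟨x, hx⟩)

end CfsgLib.SmallOrd
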