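import Cfsg.Agent.SmallOrders.Filter

/-!
A decidable test on the principal block at a prime dividing the order once.
-/

set_option autoImplicit false
set_option linter.style.haveILetI false

namespace CfsgLib.SmallOrd

universe u

/-- The index of a centraliser is a power of a small prime. -/
def isPPow (k : ℕ) : Bool :=
  (List.range 80).any fun r => isPrimeB r && (List.range 14).any fun j => decide (0 < j ∧ r ^ j = k)

/-- The bound on the block degrees when the centraliser of the Sylow subgroup has order `C`. -/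
def bigOf (p C : ℕ) : ℕ := if C % 2 = 0 then 2 * p else 1

/-- A possible last degree of a block. -/
def okE (n p e big : ℕ) (E : ℤ) (sq : ℤ) : Bool :=
  decide (big < E.natAbs) && decide (n % E.natAbs = 0) && decide ((E + e) % (p : ℤ) = 0) &&
    decide (sq + (((p - 1) / e : ℕ) : ℤ) * E ^ 2 ≤ (n : ℤ))

/-- The blocks with two or three members are impossible. -/
def blockFree (n p b e C : ℕ) : Bool :=
  isPPow (n / C) ||
    (decide (e = 2) && ((cands n p b).all fun D =>
      decide (D.natAbs ≤ bigOf p C) || !(okE n p e (bigOf p C) (-1 - D) (1 + D ^ 2)))) ||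
    (decide (e = 3) && ((cands n p b).all fun D => (cands n p b).all fun D' =>
      decide (D.natAbs ≤ bigOf p C) || decide (D'.natAbs ≤ bigOf p C) ||
        !(okE n p e (bigOf p C) (-1 - D - D') (1 + D ^ 2 + D' ^ 2))))

/-- The test at the prime `p` for order `n = p * m`. -/
def blockOK (n p m b : ℕ) : Bool :=
  isPrimeB p && decide (p ≠ 2) && decide (m ≠ 1) && decide (m % p ≠ 0) && decide (n = p * m) &&
    decide (n < (b + 1) ^ 2) &&
    ((List.range (m + 1)).filter (okSyl n p 1 m)).all fun d =>
      (List.range p).all fun e =>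
        decide (e < 2) || decide ((p - 1) % e ≠ 0) || decide (n / d / p % e ≠ 0) || blockFree n p b e (n / d / e)

theorem blockOK_false {G : Type u} [Group G] [Finite G] [IsSimpleGroup G] {p m b : ℕ}
    (h : blockOK (Nat.card G) p m b = true) : False := by
  simp only [blockOK, Bool.and_eq_true, decide_eq_true_eq, List.all_eq_true] at h
  obtain ⟨⟨⟨⟨⟨⟨hp, hp2⟩, hm1⟩, hm⟩, hn⟩, hb⟩, hall⟩ := h
  haveI : Fact p.Prime := ⟨prime_of_isPrimeB hp⟩
  have hpp : p.Prime := Fact.out
  have hm' : ¬ p ∣ m := fun hd => hm (Nat.mod_eq_zero_of_dvd hd)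
  obtain ⟨hG, P, hP, L, -, ⟨B⟩⟩ := setup_of_ne_one hp2 hn hm' hm1
  have hd := okSyl_card hG (a := 1) (by rw [pow_one]; exact hn) hm' Nat.one_pos P
  have hnL : Nat.card (Sylow p G) = L.n := P.card_eq_index_normalizer.trans L.hn.symm
  rw [hnL] at hd
  have hL := hall _ hd
  simp only [List.mem_range, Bool.or_eq_true, decide_eq_true_eq] at hL
  have hC0 : 0 < L.C := L.hC ▸ Nat.card_pos
  have he0 : L.e ≠ 0 := fun e => by
    have := L.e_mul
    rw [e, zero_mul] at this
    exact (L.hN ▸ Nat.card_pos : 0 < L.N).ne this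
  have hN : Nat.card G / L.n = L.N := by
    rw [← L.n_mul, Nat.mul_div_cancel_left _ (Nat.pos_of_ne_zero fun e => by
      have := L.n_mul; rw [e, zero_mul] at this; exact Nat.card_pos.ne this)]
  obtain ⟨c, hc⟩ := L.p_dvd
  have hNp : L.N / p = L.e * c := by
    rw [← L.e_mul, hc, show L.e * (p * c) = p * (L.e * c) by ring, Nat.mul_div_cancel_left _ hpp.pos]
  have hNe : L.N / L.e = L.C := by rw [← L.e_mul, Nat.mul_div_cancel_left _ (Nat.pos_of_ne_zero he0)]
  have hlt : L.e < p := by
    have h1 := Nat.le_of_dvd (by have := hpp.two_le; omega) L.e_dvd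
    have := hpp.two_le
    omega
  rcases hL L.e hlt with ((h | h) | h) | h
  · have := L.e_ne
    omega
  · exact h (Nat.mod_eq_zero_of_dvd L.e_dvd)
  · rw [hN, hNp] at h
    exact h (Nat.mul_mod_right _ _)
  rw [hN, hNe] at h
  simp only [blockFree, Bool.or_eq_true, Bool.and_eq_true, decide_eq_true_eq, List.all_eq_true] at h
  have hbig : ∀ z : ℤ, 1 < |z| → (2 ∣ Nat.card (Subgroup.centralizer ((P : Subgroup G) : Set G)) → 2 * (p : ℤ) < |z|) →
      bigOf p L.C < z.natAbs := fun z h1 h2 => by
    rw [Int.abs_eq_natAbs] at h1 h2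
    unfold bigOf
    split_ifs with hev
    · have := h2 (L.hC ▸ Nat.dvd_of_mod_eq_zero hev); omega
    · omega
  have hodd := hpp.odd_of_ne_two hp2
  have hDb : ∀ i, bigOf p L.C < (B.D i).natAbs := fun i =>
    hbig _ (B.D_spec i).1 fun hC => (B.large hodd hC).1 i
  have hEb : bigOf p L.C < B.E.natAbs := hbig _ B.E_spec.1 fun hC => (B.large hodd hC).2
  have hEd : Nat.card G % B.E.natAbs = 0 :=
    Nat.mod_eq_zero_of_dvd (Int.natCast_dvd_natCast.1 (Int.natAbs_dvd.2 B.E_spec.2.1))
  have hEm : (B.E + L.e) % (p : ℤ) = 0 := Int.emod_eq_zero_of_dvd B.E_spec.2.2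
  rcases h with (h | ⟨he2, h⟩) | ⟨he3, h⟩
  · simp only [isPPow, List.any_eq_true, List.mem_range, Bool.and_eq_true, decide_eq_true_eq] at h
    obtain ⟨r, -, hr, j, -, hj, hrj⟩ := h
    refine centralizer_index_ne (P : Subgroup G) hP (prime_of_isPrimeB hr) hj
      ((index_centralizer_eq L ?_ hC0).trans hrj.symm)
    exact (Nat.mul_div_cancel' (L.hC ▸ Subgroup.card_subgroup_dvd_card _)).symm
  · have hn1 : B.n = 1 := by have := B.n_eq; omega
    let i : Fin B.n := ⟨0, by omega⟩
    have hsum : ∀ {β : Type} [AddCommMonoid β] (g : Fin B.n → β), ∑ j, g j = g i := fun g =>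
      Finset.sum_eq_single i (fun j _ hj => absurd (Fin.ext (by have := j.2; simp only [i]; omega)) hj)
        (fun hh => absurd (Finset.mem_univ _) hh)
    have hs := B.sum
    have hsq := B.sq
    rw [hsum] at hs hsq
    rcases h _ (B.D_mem hb i) with h' | h'
    · exact absurd (hDb i) (not_lt.2 h')
    · rw [show -1 - B.D i = B.E by linarith] at h'
      rw [Bool.not_eq_true'] at h'
      simp only [okE, Bool.and_eq_false_iff, decide_eq_false_iff_not] at h'
      tauto
  · have hn2 : B.n = 2 := by have := B.n_eq; omega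
    let i : Fin B.n := ⟨0, by omega⟩
    let k : Fin B.n := ⟨1, by omega⟩
    have hsum : ∀ {β : Type} [AddCommMonoid β] (g : Fin B.n → β), ∑ j, g j = g i + g k := fun g => by
      have hu : (Finset.univ : Finset (Fin B.n)) = {i, k} := by
        ext j
        simp only [Finset.mem_univ, Finset.mem_insert, Finset.mem_singleton, true_iff, Fin.ext_iff, i, k]
        have := j.2; omega
      rw [hu, Finset.sum_pair (by simp [i, k])]
    have hs := B.sum
    have hsq := B.sq
    rw [hsum] at hs hsq
    rcases h _ (B.D_mem hb i) _ (B.D_mem hb k) with (h' | h') | h'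
    · exact absurd (hDb i) (not_lt.2 h')
    · exact absurd (hDb k) (not_lt.2 h')
    · rw [show -1 - B.D i - B.D k = B.E by linarith] at h'
      rw [← add_assoc] at hsq
      rw [Bool.not_eq_true'] at h'
      simp only [okE, Bool.and_eq_false_iff, decide_eq_false_iff_not] at h'
      tauto

end CfsgLib.SmallOrd
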