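import Cfsg.Agent.SmallOrders.Search
import Cfsg.Agent.S0960

/-!
Degrees modulo a self-centralising prime with full automiser; an element of order three beside a Sylow subgroup.
-/

set_option autoImplicit false
set_option linter.style.haveILetI false

namespace CfsgLib.SmallOrd

open Cfsg CfsgLib.CharBasics

universe u

variable {G : Type u} [Group G] [Finite G]

/-- A self-centralising Sylow subgroup of order `p` with `e = p - 1` restricts all degrees modulo `p`. -/
theorem deg_mod {p : ℕ} [Fact p.Prime] (hp2 : p ≠ 2) (P : Sylow p G) (hP : Nat.card P = p)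
    (hCP : Subgroup.centralizer ((P : Subgroup G) : Set G) = P)
    (he : (Subgroup.centralizer ((P : Subgroup G) : Set G)).relIndex (Subgroup.normalizer ((P : Subgroup G) : Set G)) = p - 1)
    (χ : IrrCharacter G) :
    (p : ℤ) ∣ charDegree (χ : G → ℂ) ∨ (p : ℤ) ∣ (charDegree (χ : G → ℂ) : ℤ) - 1 ∨
      (p : ℤ) ∣ (charDegree (χ : G → ℂ) : ℤ) + 1 := by
  classical
  haveI := Fintype.ofFinite G
  have hp : p.Prime := Fact.out
  by_cases hd : p ∣ charDegree (χ : G → ℂ)
  · exact Or.inl (Int.natCast_dvd_natCast.2 hd)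
  right
  obtain ⟨M, hM⟩ := Blocks.exists_modular hp
  obtain ⟨D, hD⟩ := DefectOne.exists_data P hP
  haveI : Subsingleton D.V := by
    refine (Nat.card_eq_one_iff_unique.1 ?_).1
    have h := D.card_centralizer
    rw [hD, hCP, hP] at h
    exact (Nat.mul_eq_left hp.ne_zero).1 h.symm
  obtain ⟨φ, hφ⟩ := (D.dvd_deg_iff hM χ).1 hd
  have hφ1 : φ = D.one := Subtype.ext (funext fun v => by
    rw [D.one_apply, Subsingleton.elim v 1, apply_one (isCharacter_of_irr φ.2)]
    haveI : IsMulCommutative D.V := ⟨⟨fun _ _ => Subsingleton.elim _ _⟩⟩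
    rw [charDegree_comm φ.2, Nat.cast_one])
  rw [hφ1, ← D.principalBlock_eq hM] at hφ
  have h := (Cfsg.Agent.S0960.result p M hM hp2 P hP (p - 1) he).2 χ hφ
  simp only [Int.modEq_iff_dvd, Nat.cast_sub hp.one_le, Nat.cast_one] at h
  rcases h with h | h | h | h
  · exact Or.inl (by simpa using h.neg_right)
  · right
    have := h.neg_right
    rwa [show -(-1 - (charDegree (χ : G → ℂ) : ℤ)) = charDegree (χ : G → ℂ) + 1 by ring] at this
  · right
    have := (dvd_sub (dvd_refl (p : ℤ)) h)
    rwa [show (p : ℤ) - ((p : ℤ) - 1 - charDegree (χ : G → ℂ)) = charDegree (χ : G → ℂ) + 1 by ring] at this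
  · left
    have := (dvd_add (dvd_refl (p : ℤ)) h).neg_right
    rwa [show -((p : ℤ) + (-((p : ℤ) - 1) - charDegree (χ : G → ℂ))) = charDegree (χ : G → ℂ) - 1 by ring] at this

/-- A character of degree below ten constant on the `x ^ j t ^ k`, for `x` of order five and `t` of order three. -/
theorem false_of_lt_ten [IsSimpleGroup G] (hG : ¬ IsMulCommutative G) (χ : IrrCharacter G) (hχ : χ ≠ oneChar)
    (hdeg : charDegree (χ : G → ℂ) < 10) {x t : G} (hx : orderOf x = 5) (ht : orderOf t = 3) (hxt : Commute x t)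
    {s : ℂ} (hval : ∀ j k : ℕ, ¬ 5 ∣ j → (χ : G → ℂ) (x ^ j * t ^ k) = s) : False := by
  classical
  haveI := Fintype.ofFinite G
  have hc := isCharacter_of_irr χ.2
  have hw : orderOf (x * t) = 15 := by
    rw [hxt.orderOf_mul_eq_mul_orderOf_of_coprime (by rw [hx, ht]; norm_num), hx, ht]
  obtain ⟨lam, hl, hv⟩ := exists_eigen hc (x * t)
  rw [hw] at hl
  set μ : Fin (charDegree (χ : G → ℂ)) → ℂ := fun i => lam i ^ 5 with hμ
  have hμ3 : ∀ i, μ i ^ 3 = 1 := fun i => by rw [hμ]; simp only; rw [← pow_mul]; exact hl i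
  -- each nontrivial eigenvalue has multiplicity divisible by five
  have hmult : ∀ θ : ℂ, θ ^ 3 = 1 → θ ≠ 1 → 5 ∣ (Finset.univ.filter fun i => μ i = θ).card := by
    intro θ hθ hθ1
    -- `η` is the inverse of the cube root with `η ^ 5 = θ⁻¹`
    set η := θ with hη
    have hη3 : η ^ 3 = 1 := hθ
    have h15 : η ^ 15 = 1 := by rw [show (15 : ℕ) = 3 * 5 from rfl, pow_mul, hη3, one_pow]
    have hη5 : η ^ 5 = θ ^ 2 := by rw [show (5 : ℕ) = 3 + 2 from rfl, pow_add, hη3, one_mul]
    set S : Finset ℕ := (Finset.range 15).filter fun j => 5 ∣ j with hS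
    have h1 : ∑ j ∈ Finset.range 15, (χ : G → ℂ) ((x * t) ^ j) * η ^ j =
        ((15 * (Finset.univ.filter fun i => lam i * η = 1).card : ℕ) : ℂ) := by
      simp only [hv, Finset.sum_mul]
      rw [Finset.sum_comm, Nat.cast_mul, Finset.card_filter, Nat.cast_sum, Finset.mul_sum]
      refine Finset.sum_congr rfl fun i _ => ?_
      simp only [← mul_pow]
      by_cases h : lam i * η = 1
      · simp [h]
      · rw [geom_sum_eq h, mul_pow, hl i, h15]; simp [h]
    have h2 : ∑ j ∈ Finset.range 15, (χ : G → ℂ) ((x * t) ^ j) * η ^ j =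
        ∑ j ∈ S, (χ : G → ℂ) ((x * t) ^ j) * η ^ j - s * ∑ j ∈ S, η ^ j := by
      have e : ∑ j ∈ Finset.range 15, η ^ j = 0 := by
        rw [geom_sum_eq hθ1, h15, sub_self, zero_div]
      rw [← Finset.sum_filter_add_sum_filter_not (Finset.range 15) (fun j => 5 ∣ j)] at e
      rw [← Finset.sum_filter_add_sum_filter_not (Finset.range 15) (fun j => 5 ∣ j),
        Finset.sum_congr rfl (s₁ := (Finset.range 15).filter fun j => ¬ 5 ∣ j) (g := fun j => s * η ^ j) fun j hj => by
          rw [hxt.mul_pow, hval j j (Finset.mem_filter.1 hj).2], ← Finset.mul_sum]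
      linear_combination s * e
    have h3 : ∀ (z : ℂ), z ^ 3 = 1 → ∑ j ∈ S, z ^ (j / 5) = if z = 1 then 3 else 0 := by
      intro z hz
      rw [show S = {0, 5, 10} by rw [hS]; decide, Finset.sum_insert (by decide), Finset.sum_pair (by decide)]
      split_ifs with h
      · rw [h]; norm_num
      · have := geom_sum_eq h 3
        rw [hz, sub_self, zero_div, Finset.sum_range_succ, Finset.sum_range_succ, Finset.sum_range_one] at this
        rw [← this]; norm_num [add_assoc]
    have hpow : ∀ (z : ℂ), ∀ j ∈ S, z ^ j = (z ^ 5) ^ (j / 5) := fun z j hj => by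
      rw [← pow_mul, Nat.mul_div_cancel' (Finset.mem_filter.1 hj).2]
    have h4 : ∑ j ∈ S, (χ : G → ℂ) ((x * t) ^ j) * η ^ j =
        ((3 * (Finset.univ.filter fun i => μ i = θ).card : ℕ) : ℂ) := by
      simp only [hv, Finset.sum_mul]
      rw [Finset.sum_comm, Nat.cast_mul, Finset.card_filter, Nat.cast_sum, Finset.mul_sum]
      refine Finset.sum_congr rfl fun i _ => ?_
      rw [Finset.sum_congr rfl fun j hj => by rw [← mul_pow, hpow _ j hj],
        h3 _ (by rw [← pow_mul, mul_pow, show (5 * 3 : ℕ) = 15 from rfl, hl i, h15, one_mul]), mul_pow, hη5]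
      have : (lam i ^ 5 * θ ^ 2 = 1) ↔ μ i = θ := by
        constructor
        · intro e
          calc μ i = lam i ^ 5 * θ ^ 2 * θ := by
                show lam i ^ 5 = _
                linear_combination (-(lam i ^ 5)) * hθ
            _ = θ := by rw [e, one_mul]
        · intro e
          rw [show lam i ^ 5 = θ from e]
          linear_combination hθ
      by_cases hi : μ i = θ
      · rw [if_pos (this.2 hi), if_pos hi]; norm_num
      · rw [if_neg (fun e => hi (this.1 e)), if_neg hi]; norm_num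
    have h5 : ∑ j ∈ S, η ^ j = 0 := by
      rw [Finset.sum_congr rfl (hpow η), h3 _ (by rw [← pow_mul]; exact h15), if_neg]
      rw [hη5]
      intro e
      refine hθ1 ?_
      calc θ = θ ^ 2 * θ := by rw [e, one_mul]
        _ = θ ^ 3 := by ring
        _ = 1 := hθ
    rw [h4, h5, mul_zero, sub_zero, h1, Nat.cast_inj] at h2
    refine Nat.Coprime.dvd_of_dvd_mul_left (by norm_num : Nat.Coprime 5 3) ?_
    have h6 := Dvd.dvd.mul_right (show 5 ∣ 15 by norm_num) (Finset.univ.filter fun i => lam i * η = 1).card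
    rw [← h2]
    exact h6
  obtain ⟨ω, hω⟩ : ∃ ω : ℂ, IsPrimitiveRoot ω 3 := ⟨_, Complex.isPrimitiveRoot_exp 3 (by norm_num)⟩
  have hω3 := hω.pow_eq_one
  have hω1 : ω ≠ 1 := hω.ne_one (by norm_num)
  have hω21 : ω ^ 2 ≠ 1 := hω.pow_ne_one_of_pos_of_lt (by norm_num) (by norm_num)
  have hω2' : (ω ^ 2) ^ 3 = 1 := by rw [← pow_mul, pow_mul' ω 2 3, hω3, one_pow]
  obtain ⟨a, ha⟩ := hmult ω hω3 hω1
  obtain ⟨b, hb⟩ := hmult (ω ^ 2) hω2' hω21
  set A := Finset.univ.filter fun i => μ i = ω with hA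
  set B := Finset.univ.filter fun i => μ i = ω ^ 2 with hB
  have hcases : ∀ i, μ i = 1 ∨ μ i = ω ∨ μ i = ω ^ 2 := fun i => by
    obtain ⟨k, hk, e⟩ := hω.eq_pow_of_pow_eq_one (hμ3 i)
    interval_cases k <;> simp [← e]
  have hdisj : Disjoint A B := Finset.disjoint_filter.2 fun i _ h1 h2 => hω1 (by
    have h3 : ω * ω = ω * 1 := by rw [mul_one, ← sq, ← h2, h1]
    exact mul_left_cancel₀ (hω.ne_zero (by norm_num)) h3)
  have hle : A.card + B.card < 10 := by
    rw [← Finset.card_union_of_disjoint hdisj]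
    exact lt_of_le_of_lt (Finset.card_le_univ _) (by rw [Fintype.card_fin]; exact hdeg)
  -- `t` acts trivially or the determinant is nontrivial
  have hw5 : (x * t) ^ 5 = t ^ 2 := by
    rw [hxt.mul_pow, show x ^ 5 = 1 by rw [← hx]; exact pow_orderOf_eq_one x, one_mul,
      show (5 : ℕ) = 3 + 2 from rfl, pow_add, show t ^ 3 = 1 by rw [← ht]; exact pow_orderOf_eq_one t, one_mul]
  have hval5 : ∀ j : ℕ, (χ : G → ℂ) (((x * t) ^ 5) ^ j) = ∑ i, μ i ^ j := fun j => by
    rw [← pow_mul, hv]
    exact Finset.sum_congr rfl fun i _ => by rw [hμ]; exact pow_mul _ _ _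
  obtain ⟨det, hdet⟩ := Clifford.exists_detHom χ.2
  have htriv : det ((x * t) ^ 5) = 1 := by
    have hle : commutator G ≤ det.toHomUnits.ker := Abelianization.commutator_subset_ker _
    rcases (inferInstance : (commutator G).Normal).eq_bot_or_eq_top with h | h
    · exact absurd ⟨⟨fun a b => commutatorElement_eq_one_iff_mul_comm.1 (Subgroup.mem_bot.1
        (h ▸ Subgroup.commutator_mem_commutator (Subgroup.mem_top a) (Subgroup.mem_top b)))⟩⟩ hG
    · exact congrArg Units.val (MonoidHom.mem_ker.1 (hle (h ▸ Subgroup.mem_top ((x * t) ^ 5))))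
  have hprod := DetTwist.detChar_eq_prod χ.2 μ hval5
  simp only [hdet, htriv] at hprod
  have hmA : ∀ i, i ∈ A ↔ μ i = ω := fun i => by simp [hA]
  have hmB : ∀ i, i ∈ B ↔ μ i = ω ^ 2 := fun i => by simp [hB]
  have hform : ∀ i, μ i = (if i ∈ A then ω else 1) * (if i ∈ B then ω ^ 2 else 1) := fun i => by
    rcases hcases i with h | h | h
    · rw [if_neg (fun hh => hω1 (((hmA i).1 hh).symm.trans h)),
        if_neg (fun hh => hω21 (((hmB i).1 hh).symm.trans h)), one_mul, h]
    · rw [if_pos ((hmA i).2 h), if_neg (Finset.disjoint_left.1 hdisj ((hmA i).2 h)), mul_one, h]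
    · rw [if_neg (Finset.disjoint_right.1 hdisj ((hmB i).2 h)), if_pos ((hmB i).2 h), one_mul, h]
  rw [Finset.prod_congr rfl fun i _ => hform i, Finset.prod_mul_distrib, Finset.prod_ite_mem, Finset.prod_ite_mem,
    Finset.univ_inter, Finset.univ_inter, Finset.prod_const, Finset.prod_const, ← pow_mul, ← pow_add] at hprod
  have h3d := (hω.pow_eq_one_iff_dvd _).1 hprod.symm
  rw [ha, hb] at h3d hle
  have hab : a = 0 ∧ b = 0 := by omega
  -- `t ^ 2` is in the kernel
  have hker : (χ : G → ℂ) (t ^ 2) = (χ : G → ℂ) 1 := by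
    have h := hval5 1
    rw [pow_one, hw5] at h
    rw [h, apply_one hc, Finset.sum_congr rfl fun i _ => show μ i ^ 1 = 1 by
      rw [pow_one]
      rcases hcases i with h | h | h
      · exact h
      · exact absurd (Finset.card_pos.2 ⟨i, Finset.mem_filter.2 ⟨Finset.mem_univ _, h⟩⟩ : 0 < A.card) (by omega)
      · exact absurd (Finset.card_pos.2 ⟨i, Finset.mem_filter.2 ⟨Finset.mem_univ _, h⟩⟩ : 0 < B.card) (by omega),
      Finset.sum_const, Finset.card_univ, Fintype.card_fin, nsmul_one]
  rcases (charKer_normal hc).eq_bot_or_eq_top with hk | hk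
  · have : t ^ 2 ∈ charKer _ hc := hker
    rw [hk, Subgroup.mem_bot] at this
    have h2 := orderOf_dvd_of_pow_eq_one this
    rw [ht] at h2
    norm_num at h2
  · have hall : ∀ g : G, (χ : G → ℂ) g = (χ : G → ℂ) 1 := fun g => by
      rw [← mem_charKer hc, hk]; trivial
    have h0 := sum_irr_eq_zero χ.2 (fun h => hχ (Subtype.ext h))
    rw [Finset.sum_congr rfl (fun g _ => hall g), Finset.sum_const, nsmul_eq_mul] at h0
    rcases mul_eq_zero.mp h0 with h | h
    · exact (Fintype.card_ne_zero (α := G)) (Nat.cast_eq_zero (R := ℂ) |>.mp (by simpa using h))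
    · exact apply_one_ne_zero χ.2 h

/-- A character of degree six with value one on `x t`, for `x` of order five and `t` of order three. -/
theorem false_of_six [IsSimpleGroup G] (hG : ¬ IsMulCommutative G) (χ : IrrCharacter G) (hχ : χ ≠ oneChar)
    (hdeg : charDegree (χ : G → ℂ) = 6) {x t : G} (hx : orderOf x = 5) (ht : orderOf t = 3) (hxt : Commute x t)
    (hval : ∀ j k : ℕ, ¬ 5 ∣ j → (χ : G → ℂ) (x ^ j * t ^ k) = 1) : False :=
  false_of_lt_ten hG χ hχ (by omega) hx ht hxt hval

end CfsgLib.SmallOrd
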