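import Cfsg.Agent.SmallOrders.Search

/-!
The search over the principal `5`-block with `e = 4` and a self-centralising Sylow subgroup.
-/

set_option autoImplicit false
set_option linter.style.haveILetI false

namespace CfsgLib.SmallOrd.FiveBlock

/-- The possible orders of centralisers. -/
def orders (N : ℕ) : List ℤ := ((List.range (N + 1)).filter fun c : ℕ => decide (c ∣ N)).map (fun c : ℕ => (c : ℤ))

/-- No centraliser order satisfies the class equation with these values. -/
def bad (M : ℤ) (os : List ℤ) (a b c d A B C D : ℤ) : Bool :=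
  let P := a * b * c * d
  let num := M * (P + A * A * (b * c * d) + B * B * (a * c * d) + C * C * (a * b * d) + D * D * (a * b * c))
  let S := 1 + A * A + B * B + C * C + D * D
  if num % P ≠ 0 then true
  else if num / P < S * S then true
  else os.all fun o => decide (o * o ≠ num / P) || decide (o < S)

/-- All choices fail, for order `5 * M` and signed degrees in `L`. -/
def checkAll (M : ℕ) (L : List ℤ) : Bool :=
  L.all fun a => L.all fun b => L.all fun c =>
    if (-1 - a - b - c) ∈ L ∧ 1 + a * a + b * b + c * c + (-1 - a - b - c) * (-1 - a - b - c) ≤ (5 * M : ℕ) then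
      (avals a).all fun A => (avals b).all fun B => (avals c).all fun C =>
        if (-1 - A - B - C) ∈ avals (-1 - a - b - c) then
          bad (M : ℤ) (orders (5 * M)) a b c (-1 - a - b - c) A B C (-1 - A - B - C)
        else true
    else true

universe u

theorem no_exceptional {G : Type u} [Group G] [Finite G] {M bd : ℕ} (hbd : 5 * M < (bd + 1) ^ 2)
    (checkAll_eq : checkAll M (cands (5 * M) 5 bd) = true) (h : Nat.card G = 5 * M) (P : Sylow 5 G)
    (hP : Nat.card P = 5) (L : LocalData (G := G) 5 (P : Subgroup G)) (he : L.e = 4) (hC : L.C = 5)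
    (B : BlockData (G := G) 5 L.e (P : Subgroup G)) : False := by
  haveI : Fact (Nat.Prime 5) := ⟨by norm_num⟩
  have hN : L.N = 20 := by rw [← L.e_mul, he, hC]
  revert B
  rw [he]
  intro B
  have hCP : Subgroup.centralizer ((P : Subgroup G) : Set G) = P := by
    haveI : IsCyclic (P : Subgroup G) := isCyclic_of_prime_card hP
    haveI : IsMulCommutative (P : Subgroup G) := IsCyclic.isMulCommutative
    exact (Subgroup.eq_of_le_of_card_ge (P : Subgroup G).le_centralizer (by rw [hP, ← L.hC, hC])).symm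
  obtain ⟨y, hy, hyi⟩ := exists_inverting (by norm_num) P hP hCP (by rw [← L.hN, hN]; norm_num)
  obtain ⟨n, hn, D, E, hD, hE, hsum, hsq, hinv, hch, hech⟩ := B
  obtain rfl : n = 3 := by omega
  let B : BlockData (G := G) 5 4 (P : Subgroup G) := ⟨3, hn, D, E, hD, hE, hsum, hsq, hinv, hch, hech⟩
  have hDm : ∀ i, D i ∈ cands (5 * M) 5 bd := fun i => by
    have := B.D_mem (b := bd) (by rw [h]; exact hbd) i
    rwa [h] at this
  have hEm : E ∈ cands (5 * M) 5 bd := by
    have := B.E_mem rfl (by norm_num) (b := bd) (by rw [h]; exact hbd)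
    rwa [h] at this
  obtain ⟨A, b, hA, hb, hs, -, hs2, hV, -⟩ := hinv y hy
  rcases hV hCP with hV | ⟨-, hV⟩
  swap
  · exact hV hyi
  simp only [Fin.sum_univ_three] at hsum hsq hs hs2 hV
  have eE : E = -1 - D 0 - D 1 - D 2 := by linarith
  have eb : b = -1 - A 0 - A 1 - A 2 := by linarith
  norm_num at hsq hs2
  have hchk := checkAll_eq
  rw [checkAll, List.all_eq_true] at hchk
  have h1 := hchk _ (hDm 0)
  rw [List.all_eq_true] at h1
  have h2 := h1 _ (hDm 1)
  rw [List.all_eq_true] at h2
  have h3 := h2 _ (hDm 2)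
  rw [if_pos ⟨eE ▸ hEm, by rw [← eE]; rw [h] at hsq; push_cast at hsq ⊢; linarith⟩, List.all_eq_true] at h3
  have h4 := h3 _ (mem_avals (hA 0))
  rw [List.all_eq_true] at h4
  have h5 := h4 _ (mem_avals (hA 1))
  rw [List.all_eq_true] at h5
  have h6 := h5 _ (mem_avals (hA 2))
  rw [← eE, ← eb, if_pos (mem_avals hb)] at h6
  set o : ℕ := Nat.card (Subgroup.centralizer ({y} : Set G))
  have ho : (o : ℤ) ∈ orders (5 * M) := by
    simp only [orders, List.mem_map, List.mem_filter, List.mem_range, decide_eq_true_eq]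
    have hd : o ∣ 5 * M := h ▸ Subgroup.card_subgroup_dvd_card _
    exact ⟨o, ⟨Nat.lt_succ_of_le (Nat.le_of_dvd (h ▸ Nat.card_pos) hd), hd⟩, rfl⟩
  set Pr := D 0 * D 1 * D 2 * E with hPr
  have hne : ∀ i, D i ≠ 0 := fun i e => by have := (hD i).1; rw [e, abs_zero] at this; omega
  have hEne : E ≠ 0 := fun e => by have := hE.1; rw [e, abs_zero] at this; omega
  have hkey : M * (Pr + A 0 * A 0 * (D 1 * D 2 * E) + A 1 * A 1 * (D 0 * D 2 * E) +
      A 2 * A 2 * (D 0 * D 1 * E) + b * b * (D 0 * D 1 * D 2)) = (o : ℤ) * o * Pr := by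
    rw [h] at hV
    have a0 : (D 0 : ℚ) ≠ 0 := by exact_mod_cast hne 0
    have a1 : (D 1 : ℚ) ≠ 0 := by exact_mod_cast hne 1
    have a2 : (D 2 : ℚ) ≠ 0 := by exact_mod_cast hne 2
    have a3 : (E : ℚ) ≠ 0 := by exact_mod_cast hEne
    rw [hPr]
    have : ((M * (D 0 * D 1 * D 2 * E + A 0 * A 0 * (D 1 * D 2 * E) + A 1 * A 1 * (D 0 * D 2 * E) +
        A 2 * A 2 * (D 0 * D 1 * E) + b * b * (D 0 * D 1 * D 2)) : ℤ) : ℚ) =
        (((o : ℤ) * o * (D 0 * D 1 * D 2 * E) : ℤ) : ℚ) := by
      push_cast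
      field_simp at hV
      push_cast at hV
      linarith
    exact_mod_cast this
  have hPne : Pr ≠ 0 := mul_ne_zero (mul_ne_zero (mul_ne_zero (hne 0) (hne 1)) (hne 2)) hEne
  have hS : 1 + A 0 * A 0 + A 1 * A 1 + A 2 * A 2 + b * b ≤ (o : ℤ) := by
    nlinarith [hs2]
  have hnn : (0 : ℤ) ≤ 1 + A 0 * A 0 + A 1 * A 1 + A 2 * A 2 + b * b := by
    linarith [mul_self_nonneg (A 0), mul_self_nonneg (A 1), mul_self_nonneg (A 2), mul_self_nonneg b]
  simp only [bad] at h6
  rw [hkey, if_neg (not_not.2 (Int.mul_emod_left _ _)), Int.mul_ediv_cancel _ hPne, if_neg (not_lt.2 (by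
    have h0 := hnn
    exact mul_le_mul hS hS h0 (Int.natCast_nonneg o))), List.all_eq_true] at h6
  have h7 := h6 _ ho
  simp only [ne_eq, not_true_eq_false, decide_false, Bool.false_or, decide_eq_true_eq] at h7
  omega

end CfsgLib.SmallOrd.FiveBlock
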