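import Cfsg.Agent.SmallOrders.OrdersA
import Cfsg.Agent.SmallOrders.BlockFilter
import Cfsg.Agent.SmallOrders.FiveBlock
import Cfsg.Agent.SmallOrders.DegreeMod
import Cfsg.Agent.S0985

/-!
The orders at most 1092 which need more than a certificate.
-/

set_option autoImplicit false
set_option linter.style.haveILetI false

open Cfsg CfsgLib.CharBasics

namespace CfsgLib.SmallOrd.Below1092

universe u

variable {G : Type u} [Group G] [Finite G] [IsSimpleGroup G]

/-- The setting at the prime five, with the list of admissible numbers of Sylow subgroups. -/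
theorem five_setup {m : ℕ} (h : Nat.card G = 5 * m) (hm : ¬ 5 ∣ m) (hev : 2 ∣ Nat.card G) :
    ¬ IsMulCommutative G ∧ ∃ P : Sylow 5 G, Nat.card P = 5 ∧ ∃ L : LocalData (G := G) 5 (P : Subgroup G),
      L.n ∈ (List.range (m + 1)).filter (okSyl (Nat.card G) 5 1 m) ∧ (L.e = 2 ∨ L.e = 4) ∧
      Nonempty (BlockData (G := G) 5 L.e (P : Subgroup G)) := by
  haveI : Fact (Nat.Prime 5) := ⟨by norm_num⟩
  obtain ⟨hG, P, hP, L, -, hB⟩ := setup (p := 5) (by norm_num) h hm hev
  have hd := okSyl_card hG (a := 1) (by rw [pow_one]; exact h) hm Nat.one_pos P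
  rw [P.card_eq_index_normalizer.trans L.hn.symm] at hd
  refine ⟨hG, P, hP, L, hd, ?_, hB⟩
  have he1 := L.e_ne
  obtain ⟨k, hk, hk'⟩ := (Nat.dvd_prime_pow Nat.prime_two).1 (show L.e ∣ 2 ^ 2 from L.e_dvd)
  rw [hk'] at he1 ⊢
  interval_cases k <;> first | exact Or.inl rfl | exact Or.inr rfl | norm_num at he1

theorem ne720 : Nat.card G ≠ 720 := by
  intro h
  haveI : Fact (Nat.Prime 5) := ⟨by norm_num⟩
  obtain ⟨-, P, hP, L, hd, he, ⟨B⟩⟩ := five_setup (G := G) (m := 144) (by rw [h]) (by norm_num) (by rw [h]; norm_num)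
  rw [h, show (List.range (144 + 1)).filter (okSyl 720 5 1 144) = [36] by decide +kernel, List.mem_singleton] at hd
  have hmul := L.n_mul
  rw [h, hd] at hmul
  have hCd := L.e_mul
  rcases he with e | e <;> rw [e] at hCd
  · exact B.five_even_false (Or.inl e) (L.hC ▸ (show 2 ∣ L.C by omega)) (b := 26) (by rw [h]; norm_num)
      (by rw [h]; decide +kernel)
  · exact FiveBlock.no_exceptional (M := 144) (bd := 26) (by norm_num) (by decide +kernel) (by rw [h]) P hP L e
      (by omega) B

theorem ne1080 : Nat.card G ≠ 1080 := by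
  intro h
  haveI : Fact (Nat.Prime 5) := ⟨by norm_num⟩
  obtain ⟨hG, P, hP, L, hd, he, ⟨B⟩⟩ := five_setup (G := G) (m := 216) (by rw [h]) (by norm_num) (by rw [h]; norm_num)
  rw [h, show (List.range (216 + 1)).filter (okSyl 1080 5 1 216) = [36] by decide +kernel, List.mem_singleton] at hd
  have hmul := L.n_mul
  rw [h, hd] at hmul
  have hCd := L.e_mul
  rcases he with e | e <;> rw [e] at hCd
  swap
  · omega
  have hC : L.C = 15 := by omega
  revert B
  rw [e]
  intro B
  obtain ⟨i, -, hE⟩ := B.sum_two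
  have hDm := B.D_mem (b := 32) (by rw [h]; norm_num) i
  rw [h, show cands 1080 5 32 = [-24, -9, -4, 6] by decide +kernel] at hDm
  have hd' := B.E_spec.2.1
  rw [hE, h] at hd'
  have hlt : (B.D i).natAbs < 10 := by
    simp only [List.mem_cons, List.not_mem_nil, or_false] at hDm
    rcases hDm with e | e | e | e <;> rw [e] at hd' ⊢ <;> first | decide | norm_num at hd'
  obtain ⟨χ, s, hχ1, hs, hDs, hval⟩ := B.D_char i
  have hdeg : charDegree (χ : G → ℂ) < 10 := by
    rw [hDs] at hlt
    rcases hs with rfl | rfl <;> simpa using hlt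
  haveI : Fact (Nat.Prime 3) := ⟨Nat.prime_three⟩
  obtain ⟨⟨t, ht⟩, ht3⟩ := exists_prime_orderOf_dvd_card' (G := Subgroup.centralizer ((P : Subgroup G) : Set G)) 3
    (by rw [← L.hC, hC]; norm_num)
  rw [Subgroup.orderOf_mk] at ht3
  obtain ⟨x, hx5⟩ := exists_prime_orderOf_dvd_card' (G := (P : Subgroup G)) 5 (by rw [hP])
  have hxo : orderOf (x : G) = 5 := by rw [Subgroup.orderOf_coe]; exact hx5
  refine false_of_lt_ten hG χ hχ1 hdeg hxo ht3 (Subgroup.mem_centralizer_iff.1 ht _ x.2) (s := (s : ℂ))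
    fun j k hj => ?_
  exact hval ((x : G) ^ j) (pow_mem x.2 j) (fun e => hj (hxo ▸ orderOf_dvd_of_pow_eq_one e)) (t ^ k) (pow_mem ht k)
    fun hd5 => by
      have := hd5.trans (orderOf_pow_dvd k)
      rw [ht3] at this
      norm_num at this

theorem ne960 : Nat.card G ≠ 960 := by
  intro h
  haveI : Fact (Nat.Prime 5) := ⟨by norm_num⟩
  obtain ⟨-, P, hP, L, hd, he, ⟨B⟩⟩ := five_setup (G := G) (m := 192) (by rw [h]) (by norm_num) (by rw [h]; norm_num)
  rw [h, show (List.range (192 + 1)).filter (okSyl 960 5 1 192) = [16, 96] by decide +kernel] at hd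
  simp only [List.mem_cons, List.not_mem_nil, or_false] at hd
  have hmul := L.n_mul
  rw [h] at hmul
  have hCd := L.e_mul
  have hidx : ∀ k a : ℕ, 960 = L.C * k → k = 2 ^ a → 0 < a → False := fun k a hk ha ha0 =>
    centralizer_index_ne (P : Subgroup G) hP Nat.prime_two ha0
      ((index_centralizer_eq L (h.trans hk) (L.hC ▸ Nat.card_pos)).trans ha)
  rcases hd with hd | hd <;> rw [hd] at hmul
  · rcases he with e | e <;> rw [e] at hCd
    · exact hidx 32 5 (by omega) rfl (by norm_num)
    · exact hidx 64 6 (by omega) rfl (by norm_num)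
  rcases he with e | e <;> rw [e] at hCd
  swap
  · omega
  have hCP : Subgroup.centralizer ((P : Subgroup G) : Set G) = P := by
    haveI : IsCyclic (P : Subgroup G) := isCyclic_of_prime_card hP
    haveI : IsMulCommutative (P : Subgroup G) := IsCyclic.isMulCommutative
    exact (Subgroup.eq_of_le_of_card_ge (P : Subgroup G).le_centralizer (by rw [hP, ← L.hC]; omega)).symm
  revert B
  rw [e]
  intro B
  obtain ⟨i, hi, hE⟩ := B.sum_two
  have hDm := B.D_mem (b := 30) (by rw [h]; norm_num) i
  rw [h, show cands 960 5 30 = [-24, -4, 6, 16] by decide +kernel] at hDm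
  have hd' := B.E_spec.2.1
  rw [hE, h] at hd'
  have hD : B.D i = -4 := by
    simp only [List.mem_cons, List.not_mem_nil, or_false] at hDm
    rcases hDm with e | e | e | e <;> rw [e] at hd' ⊢ <;> first | rfl | norm_num at hd'
  obtain ⟨y, hy, hy2⟩ := exists_central_involution (G := G) (by rw [h]; norm_num)
  rw [h, show (960 : ℕ) = 2 ^ 6 * 15 by norm_num, Nat.factorization_mul (by norm_num) (by norm_num),
    Finsupp.add_apply, Nat.Prime.factorization_pow Nat.prime_two, Finsupp.single_eq_same,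
    Nat.factorization_eq_zero_of_not_dvd (by norm_num), add_zero] at hy2
  obtain ⟨A, b, hA, -, hs, -, -, hV⟩ := B.invol y hy
  rw [Finset.sum_eq_single i (fun j _ hj => absurd (hi j) hj) (by simp)] at hs
  have hA0 : A i = 0 := by
    have := mem_avals (hA i)
    rw [hD, show avals (-4) = [0] by decide +kernel, List.mem_singleton] at this
    exact this
  have hb : b = -1 := by rw [hA0] at hs; linarith
  obtain ⟨c, hc⟩ : ∃ c : ℕ, c = Nat.card (Subgroup.centralizer ({y} : Set G)) := ⟨_, rfl⟩
  obtain ⟨k, hk⟩ : 64 ∣ c := by rw [hc]; exact hy2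
  have hV' := hV hCP
  rw [Finset.sum_eq_single i (fun j _ hj => absurd (hi j) hj) (by simp), hE, hb, hA0, hD, h, ← hc, hk] at hV'
  rcases hV' with hV' | ⟨hV', -⟩
  · push_cast at hV'
    norm_num at hV'
    have : (k : ℚ) ^ 2 * 16 = 1 := by linarith
    have h1 : k ^ 2 * 16 = 1 := by exact_mod_cast this
    omega
  · norm_num at hV'

theorem ne900 : Nat.card G ≠ 900 := by
  intro h
  haveI : Fact (Nat.Prime 5) := ⟨by norm_num⟩
  have hG : ¬ IsMulCommutative G := not_comm (by rw [h]; norm_num)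
  obtain ⟨P₀⟩ : Nonempty (Sylow 5 G) := inferInstance
  have hd := okSyl_card hG (a := 2) (m := 36) (by rw [h]; norm_num) (by norm_num) (by norm_num) P₀
  rw [h, show (List.range (36 + 1)).filter (okSyl 900 5 2 36) = [36] by decide +kernel, List.mem_singleton] at hd
  obtain ⟨P, R, hne, hidx⟩ := Cfsg.Agent.S0985.result (G := G) 5 2 (by rw [hd]; decide)
  have hcP := sylow_card (p := 5) (k := 2) (m := 36) (by rw [h]; norm_num) (by norm_num) P
  have hcR := sylow_card (p := 5) (k := 2) (m := 36) (by rw [h]; norm_num) (by norm_num) R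
  obtain ⟨d, hd1, hdP, hdR⟩ : ∃ d : G, d ≠ 1 ∧ d ∈ (P : Subgroup G) ∧ d ∈ (R : Subgroup G) := by
    obtain ⟨⟨⟨d, hdP⟩, hdR⟩, hd1⟩ : ∃ d : (R : Subgroup G).subgroupOf (P : Subgroup G), d ≠ 1 := by
      by_contra hno
      push Not at hno
      haveI : Subsingleton ((R : Subgroup G).subgroupOf (P : Subgroup G)) := ⟨fun a b => by rw [hno a, hno b]⟩
      have := Subgroup.card_mul_index ((R : Subgroup G).subgroupOf (P : Subgroup G))
      rw [Nat.card_of_subsingleton (1 : (R : Subgroup G).subgroupOf (P : Subgroup G)), hcP] at this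
      norm_num at this hidx
      omega
    exact ⟨d, fun e => hd1 (Subtype.ext (Subtype.ext e)), hdP, hdR⟩
  set C := Subgroup.centralizer ({d} : Set G) with hCdef
  have hle : ∀ Q : Sylow 5 G, d ∈ (Q : Subgroup G) → (Q : Subgroup G) ≤ C := fun Q hQ x hx => by
    rw [hCdef, Subgroup.mem_centralizer_singleton_iff]
    exact congrArg Subtype.val (IsPGroup.commutative_of_card_eq_prime_sq
      (sylow_card (p := 5) (k := 2) (m := 36) (by rw [h]; norm_num) (by norm_num) Q)
      (⟨x, hx⟩ : (Q : Subgroup G)) ⟨d, hQ⟩)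
  have hC : C ≠ ⊤ := fun ht => by
    have hdz : d ∈ Subgroup.center G := Subgroup.mem_center_iff.2 fun g =>
      Subgroup.mem_centralizer_singleton_iff.1 (ht ▸ Subgroup.mem_top g : g ∈ C)
    rcases (inferInstance : (Subgroup.center G).Normal).eq_bot_or_eq_top with hz | hz
    · exact hd1 (Subgroup.mem_bot.1 (hz ▸ hdz))
    · exact hG ⟨⟨fun g k => (Subgroup.mem_center_iff.1 (hz ▸ Subgroup.mem_top k : k ∈ Subgroup.center G) g)⟩⟩
  let P' : Sylow 5 C := P.subtype (hle P hdP)
  let R' : Sylow 5 C := R.subtype (hle R hdR)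
  have hPR : P' ≠ R' := fun e => hne (Sylow.ext (by
    have h1 := congrArg (fun Q : Sylow 5 C => (Q : Subgroup C)) e
    simp only [P', R', Sylow.coe_subtype, Subgroup.subgroupOf_inj] at h1
    rwa [inf_eq_left.2 (hle P hdP), inf_eq_left.2 (hle R hdR)] at h1))
  have hn : 6 ≤ Nat.card (Sylow 5 C) := by
    have h1 := card_sylow_modEq_one 5 C
    have h2 : 1 < Nat.card (Sylow 5 C) := Finite.one_lt_card_iff_nontrivial.2 ⟨P', R', hPR⟩
    unfold Nat.ModEq at h1
    omega
  have h25 : Nat.card (P' : Subgroup C) = 25 := by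
    rw [Sylow.coe_subtype, Nat.card_congr (Subgroup.subgroupOfEquivOfLe (hle P hdP)).toEquiv, hcP]
    norm_num
  have hmulP := (P' : Subgroup C).card_mul_index
  have hle6 : 6 ≤ (P' : Subgroup C).index :=
    hn.trans (Nat.le_of_dvd (Nat.pos_of_ne_zero Subgroup.index_ne_zero_of_finite) P'.card_dvd_index)
  rw [h25] at hmulP
  have hmulC := C.card_mul_index
  rw [h, ← hmulP] at hmulC
  have hf := two_mul_card_dvd_factorial hG C hC
  rw [h] at hf
  have hI : C.index ≤ 6 := by
    by_contra hgt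
    push Not at hgt
    have := Nat.mul_le_mul hle6 hgt
    rw [mul_assoc] at hmulC
    omega
  generalize C.index = I at hI hf
  interval_cases I <;> norm_num [Nat.factorial] at hf

end CfsgLib.SmallOrd.Below1092
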