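import Cfsg.Agent.SmallOrders.Search
import Cfsg.Agent.S0732
import Cfsg.Agent.H29.PSLEleven.Basic

/-!
Recognition of `PSL(2,p)` among simple groups through the action on `p + 1` Sylow subgroups.
-/

set_option autoImplicit false
set_option linter.style.haveILetI false

namespace CfsgLib.SmallOrd

universe u v

theorem iso_psl_two {G : Type u} [Group G] [Finite G] [IsSimpleGroup G] {p : ℕ} [Fact p.Prime]
    (hn : Nat.card (Sylow p G) = p + 1) (h : 2 * Nat.card G = (p + 1) * p * (p - 1)) (hp : 3 ≤ p)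
    (hq : ∀ q : ℕ, p + 1 ≠ 2 ^ q) {F : Type v} [Field F] [Fintype F] (hF : Fintype.card F = p) :
    Nonempty (G ≃* Matrix.ProjectiveSpecialLinearGroup (Fin 2) F) := by
  classical
  haveI := Fintype.ofFinite (Sylow p G)
  have hpp : p.Prime := Fact.out
  obtain ⟨d, hd⟩ : ∃ d, p - 1 = 2 * d := by
    obtain ⟨k, hk⟩ := hpp.odd_of_ne_two (by omega)
    exact ⟨k, by omega⟩
  set f := MulAction.toPermHom G (Sylow p G)
  have hinj : Function.Injective f := by
    rw [← MonoidHom.ker_eq_bot_iff]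
    rcases (MonoidHom.normal_ker f).eq_bot_or_eq_top with hk | hk
    · exact hk
    · exfalso
      obtain ⟨P⟩ : Nonempty (Sylow p G) := inferInstance
      have hsub : Subsingleton (Sylow p G) := ⟨fun A B => by
        obtain ⟨g, rfl⟩ := MulAction.exists_smul_eq G A B
        have hg : f g = 1 := MonoidHom.mem_ker.1 (hk ▸ Subgroup.mem_top g)
        exact (congrArg (fun s : Equiv.Perm (Sylow p G) => s A) hg).symm⟩
      have h1 : Nat.card (Sylow p G) = 1 := Nat.card_of_subsingleton P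
      omega
  haveI : MulAction.IsPretransitive f.range (Sylow p G) := ⟨fun A B => by
    obtain ⟨g, hg⟩ := MulAction.exists_smul_eq G A B
    exact ⟨⟨f g, g, rfl⟩, hg⟩⟩
  have hcard : Nat.card f.range = (p + 1) * p * d := by
    rw [← Nat.card_congr (MonoidHom.ofInjective hinj).toEquiv]
    rw [hd] at h
    nlinarith
  have hα : Fintype.card (Sylow p G) = p + 1 := by rw [← Nat.card_eq_fintype_card, hn]
  rcases Cfsg.Agent.S0732.result hpp hα f.range hcard (by omega) with ⟨h1, -⟩ | ⟨-, ⟨e⟩⟩ | ⟨q, -, h1, -⟩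
  · omega
  · exact ⟨((MonoidHom.ofInjective hinj).trans e).trans
      (CfsgLib.H29.PSLEleven.pslEquivOfRingEquiv (ZMod.ringEquivOfPrime F hpp hF))⟩
  · exact absurd h1 (hq q)

/-- The form used for a given order. -/
theorem iso_psl_two_of_card {G : Type u} [Group G] [Finite G] [IsSimpleGroup G] (p m : ℕ) [Fact p.Prime]
    (hG : Nat.card G = p * m) (hm : ¬ p ∣ m) (hev : 2 ∣ m) (hp : 3 ≤ p)
    (hlist : ((List.range (m + 1)).filter fun d => decide (d ∣ m ∧ d % p = 1 ∧ d ≠ 1)) = [p + 1])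
    (hm2 : 2 * m = (p + 1) * (p - 1)) (hq : ∀ q : ℕ, p + 1 ≠ 2 ^ q) {F : Type v} [Field F] [Fintype F]
    (hF : Fintype.card F = p) : Nonempty (G ≃* Matrix.ProjectiveSpecialLinearGroup (Fin 2) F) := by
  obtain ⟨-, P, -, L, hn, -⟩ := setup (by omega) hG hm (hG ▸ hev.mul_left p)
  have h1 := mem_list (by rintro rfl; exact hm (dvd_zero p)) hn L.n_mod L.n_ne
  rw [hlist, List.mem_singleton, L.hn] at h1
  exact iso_psl_two (P.card_eq_index_normalizer.trans h1) (by rw [hG]; linear_combination p * hm2) hp hq hF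

theorem succ_ne_two_pow {n k : ℕ} (h1 : 2 ^ k < n) (h2 : n < 2 ^ (k + 1)) : ∀ q : ℕ, n ≠ 2 ^ q := fun q e => by
  subst e
  have := (Nat.pow_lt_pow_iff_right (by norm_num)).1 h1
  have := (Nat.pow_lt_pow_iff_right (by norm_num)).1 h2
  omega

end CfsgLib.SmallOrd
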