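import Cfsg.Agent.SmallOrders.Local

/-!
Consequences of the block data used in searches over orders.
-/

set_option autoImplicit false

namespace CfsgLib.SmallOrd

universe u

variable {G : Type u} [Group G] [Finite G]

theorem setup_of_ne_one [IsSimpleGroup G] {p m : ℕ} [Fact p.Prime] (hp2 : p ≠ 2) (h : Nat.card G = p * m)
    (hm : ¬ p ∣ m) (hm1 : m ≠ 1) :
    ¬ IsMulCommutative G ∧ ∃ P : Sylow p G, Nat.card P = p ∧ ∃ L : LocalData (G := G) p (P : Subgroup G),
      L.n ∣ m ∧ Nonempty (BlockData (G := G) p L.e (P : Subgroup G)) := by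
  have hp : p.Prime := Fact.out
  have hG : ¬ IsMulCommutative G := not_comm fun hpr => hm1 <| by
    rcases Nat.prime_mul_iff.1 (h ▸ hpr) with ⟨-, h1⟩ | ⟨-, h1⟩
    · exact h1
    · exact absurd h1 hp.one_lt.ne'
  obtain ⟨P⟩ : Nonempty (Sylow p G) := inferInstance
  have hP : Nat.card P = p := by
    have := sylow_card (p := p) (k := 1) (m := m) (by rw [pow_one]; exact h) hm P
    rwa [pow_one] at this
  have hne : Nat.card G ≠ p := fun e => hG <| by
    haveI := isCyclic_of_prime_card (α := G) e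
    exact IsCyclic.isMulCommutative
  obtain ⟨L⟩ := exists_localData P hP hne
  refine ⟨hG, P, hP, L, ?_, exists_blockData hG hp2 P hP L.he⟩
  obtain ⟨c, hc⟩ := L.p_dvd
  have h1 := L.n_mul
  rw [← L.e_mul, hc, h] at h1
  exact ⟨L.e * c, Nat.eq_of_mul_eq_mul_left hp.pos (by rw [← h1]; ring)⟩

theorem setup [IsSimpleGroup G] {p m : ℕ} [Fact p.Prime] (hp2 : p ≠ 2) (h : Nat.card G = p * m) (hm : ¬ p ∣ m)
    (hev : 2 ∣ Nat.card G) :
    ¬ IsMulCommutative G ∧ ∃ P : Sylow p G, Nat.card P = p ∧ ∃ L : LocalData (G := G) p (P : Subgroup G),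
      L.n ∣ m ∧ Nonempty (BlockData (G := G) p L.e (P : Subgroup G)) :=
  setup_of_ne_one hp2 h hm fun h1 => by
    subst h1
    rw [h, mul_one] at hev
    exact hp2 ((Nat.prime_dvd_prime_iff_eq Nat.prime_two (Fact.out : p.Prime)).1 hev).symm

variable {p e : ℕ} {P : Subgroup G}

theorem BlockData.D_mem (B : BlockData (G := G) p e P) {b : ℕ} (hb : Nat.card G < (b + 1) ^ 2) (i : Fin B.n) :
    B.D i ∈ cands (Nat.card G) p b := by
  refine mem_cands hb (B.D_spec i).1 (B.D_spec i).2.1 (B.D_spec i).2.2 ?_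
  have h := B.sq
  have h1 := Finset.single_le_sum (fun j _ => sq_nonneg (B.D j)) (Finset.mem_univ i)
  have h2 : (0 : ℤ) ≤ ((p - 1) / e : ℕ) * B.E ^ 2 := by positivity
  linarith

theorem BlockData.E_mem (B : BlockData (G := G) p e P) (he : e = p - 1) (hp : 1 < p) {b : ℕ}
    (hb : Nat.card G < (b + 1) ^ 2) : B.E ∈ cands (Nat.card G) p b := by
  subst he
  refine mem_cands hb B.E_spec.1 B.E_spec.2.1 ?_ ?_
  · have h := B.E_spec.2.2
    rw [Nat.cast_sub hp.le] at h
    have := dvd_sub h (dvd_refl (p : ℤ))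
    rwa [show B.E + ((p : ℤ) - (1 : ℕ)) - p = B.E - 1 by push_cast; ring] at this
  · have h := B.sq
    rw [Nat.div_self (by omega : 0 < p - 1)] at h
    have h1 : (0 : ℤ) ≤ ∑ i, B.D i ^ 2 := Finset.sum_nonneg fun i _ => sq_nonneg _
    push_cast at h
    linarith

/-- With an involution centralising the Sylow subgroup every member of the block has large degree. -/
theorem BlockData.large (B : BlockData (G := G) p e P) (hp : Odd p)
    (hC : 2 ∣ Nat.card (Subgroup.centralizer (P : Set G))) :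
    (∀ i, 2 * (p : ℤ) < |B.D i|) ∧ 2 * (p : ℤ) < |B.E| := by
  obtain ⟨y, hy, hyC⟩ := exists_involution_centralizing hC
  obtain ⟨A, b, hA, hb, -, hcong, -⟩ := B.invol y hy
  exact ⟨fun i => (hA i).two_mul_lt hp ((hcong hyC).1 i), hb.two_mul_lt hp (hcong hyC).2⟩

/-- A two member block. -/
theorem BlockData.sum_two (B : BlockData (G := G) p 2 P) : ∃ i : Fin B.n, (∀ j, j = i) ∧ B.E = -1 - B.D i := by
  have hn : B.n = 1 := by have := B.n_eq; omega
  refine ⟨⟨0, by omega⟩, fun j => Fin.ext (by have := j.2; simp only; omega), ?_⟩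
  have h := B.sum
  rw [Finset.sum_eq_single (⟨0, by omega⟩ : Fin B.n) (fun j _ hj => absurd (Fin.ext (by have := j.2; simp only; omega)) hj)
    (fun hh => absurd (Finset.mem_univ _) hh)] at h
  linarith

end CfsgLib.SmallOrd

namespace CfsgLib.SmallOrd

universe u

variable {G : Type u} [Group G] [Finite G]

/-- An element of order three centralising a Sylow subgroup of order `p`, in order `9 p 2 ^ a`. -/
theorem false_of_three [IsSimpleGroup G] (hG : ¬ IsMulCommutative G) {p a : ℕ} [Fact p.Prime] (hp3 : p ≠ 3) (hp2 : p ≠ 2)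
    (h : Nat.card G = p * 3 ^ 2 * 2 ^ a) (P : Subgroup G) (hP : Nat.card P = p)
    (hC3 : 3 ∣ Nat.card (Subgroup.centralizer (P : Set G))) : False := by
  haveI : Fact (Nat.Prime 3) := ⟨Nat.prime_three⟩
  have hp : p.Prime := Fact.out
  obtain ⟨⟨y, hy⟩, hy3⟩ := exists_prime_orderOf_dvd_card' 3 hC3
  rw [Subgroup.orderOf_mk] at hy3
  set C := Subgroup.centralizer ({y} : Set G)
  have hpC : p ∣ Nat.card C := by
    rw [← hP]
    refine Subgroup.card_dvd_of_le fun x hx => ?_
    rw [Subgroup.mem_centralizer_singleton_iff]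
    exact Subgroup.mem_centralizer_iff.1 hy x hx
  obtain ⟨T, hT⟩ := (IsPGroup.of_card (p := 3) (n := 1) (G := Subgroup.zpowers y)
    (by rw [Nat.card_zpowers, hy3, pow_one])).exists_le_sylow
  have h3m : ¬ 3 ∣ p * 2 ^ a := fun hd => by
    rcases Nat.prime_three.dvd_mul.1 hd with hd | hd
    · exact hp3 ((Nat.prime_dvd_prime_iff_eq Nat.prime_three hp).1 hd).symm
    · exact absurd (Nat.prime_three.dvd_of_dvd_pow hd) (by norm_num)
  have hTc : Nat.card (T : Subgroup G) = 3 ^ 2 := sylow_card (m := p * 2 ^ a) (by rw [h]; ring) h3m T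
  have h9 : 3 ^ 2 ∣ Nat.card C := by
    rw [← hTc]
    refine Subgroup.card_dvd_of_le fun x hx => ?_
    rw [Subgroup.mem_centralizer_singleton_iff]
    exact congrArg Subtype.val (IsPGroup.commutative_of_card_eq_prime_sq hTc
      (⟨x, hx⟩ : (T : Subgroup G)) ⟨y, hT (Subgroup.mem_zpowers y)⟩)
  have h63 : p * 3 ^ 2 ∣ Nat.card C :=
    Nat.Coprime.mul_dvd_of_dvd_of_dvd (((Nat.coprime_primes hp Nat.prime_three).2 hp3).pow_right 2) hpC h9
  obtain ⟨c, hc⟩ := h63
  have hci := C.card_mul_index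
  rw [hc, h, mul_assoc (p * 3 ^ 2) c] at hci
  have hdvd : C.index ∣ 2 ^ a :=
    Dvd.intro_left c (Nat.eq_of_mul_eq_mul_left (Nat.mul_pos hp.pos (by norm_num)) hci)
  obtain ⟨b, -, hb⟩ := (Nat.dvd_prime_pow Nat.prime_two).1 hdvd
  rcases Nat.eq_zero_or_pos b with hb0 | hb0
  · rw [hb0, pow_zero, Subgroup.index_eq_one] at hb
    have hyz : y ∈ Subgroup.center G := Subgroup.mem_center_iff.2 fun g =>
      Subgroup.mem_centralizer_singleton_iff.1 (hb ▸ Subgroup.mem_top g : g ∈ C)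
    rcases (inferInstance : (Subgroup.center G).Normal).eq_bot_or_eq_top with hz | hz
    · rw [hz, Subgroup.mem_bot] at hyz
      rw [hyz, orderOf_one] at hy3
      norm_num at hy3
    · exact hG ⟨⟨fun g k => (Subgroup.mem_center_iff.1 (hz ▸ Subgroup.mem_top k : k ∈ Subgroup.center G) g)⟩⟩
  · exact CfsgLib.CharBasics.not_isSimpleGroup_of_class_prime_pow Nat.prime_two y hb hb0 inferInstance

/-- At the prime five an involution cannot centralise the Sylow subgroup. -/
theorem BlockData.five_even_false {e : ℕ} {P : Subgroup G} (B : BlockData (G := G) 5 e P) (he : e = 2 ∨ e = 4)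
    (hC : 2 ∣ Nat.card (Subgroup.centralizer (P : Set G))) {b : ℕ} (hb : Nat.card G < (b + 1) ^ 2)
    (hlist : ∀ D ∈ cands (Nat.card G) 5 b, D.natAbs ≤ 10 ∨
      (D % 2 = 0 ∧ ¬ (-1 - D).natAbs ∣ Nat.card G)) : False := by
  obtain ⟨hD, hE⟩ := B.large (by decide) hC
  have hk : ∀ D ∈ cands (Nat.card G) 5 b, (2 * (5 : ℕ) : ℤ) < |D| →
      (2 : ℤ) ∣ D ∧ ¬ (-1 - D).natAbs ∣ Nat.card G := fun D hm hl => by
    rcases hlist D hm with h | h
    · rw [Int.abs_eq_natAbs] at hl; omega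
    · exact ⟨Int.dvd_of_emod_eq_zero h.1, h.2⟩
  rcases he with rfl | rfl
  · obtain ⟨i, -, hEi⟩ := B.sum_two
    have h := B.E_spec.2.1
    rw [hEi, ← Int.natAbs_dvd, Int.natCast_dvd_natCast] at h
    exact (hk _ (B.D_mem hb i) (hD i)).2 h
  · have h1 := (hk _ (B.E_mem rfl (by norm_num) hb) hE).1
    have h2 : (2 : ℤ) ∣ ∑ i, B.D i := Finset.dvd_sum fun i _ => (hk _ (B.D_mem hb i) (hD i)).1
    have := B.sum
    omega

theorem index_centralizer_eq {p : ℕ} {P : Subgroup G} (L : LocalData (G := G) p P) {k : ℕ}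
    (h : Nat.card G = L.C * k) (hC0 : 0 < L.C) : (Subgroup.centralizer (P : Set G)).index = k := by
  refine Nat.eq_of_mul_eq_mul_left hC0 ?_
  rw [← h, L.hC, Subgroup.card_mul_index]

end CfsgLib.SmallOrd
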