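import Cfsg.Agent.SmallOrders.Search
import Cfsg.Agent.S1230
import Cfsg.Agent.H29.PSLEleven.Basic

/-!
Recognition of `PSL(2, 2^f)` among simple groups of small order by counting elements.
-/

set_option autoImplicit false
set_option linter.style.haveILetI false

namespace CfsgLib.SmallOrd

universe u v

variable {G : Type u} [Group G] [Finite G]

/-- A non-identity element of a subgroup of prime order has the same centraliser. -/
theorem centralizer_of_mem_prime {p : ℕ} [Fact p.Prime] (P : Subgroup G) (hP : Nat.card P = p) {x : G}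
    (hx : x ∈ P) (hx1 : x ≠ 1) : Subgroup.centralizer ({x} : Set G) = Subgroup.centralizer (P : Set G) := by
  have hox : orderOf x = p := by
    refine orderOf_eq_prime ?_ hx1
    have := pow_card_eq_one' (x := (⟨x, hx⟩ : P))
    rw [hP] at this
    exact congrArg Subtype.val this
  have hz : Subgroup.zpowers x = P := by
    refine Subgroup.eq_of_le_of_card_ge (Subgroup.zpowers_le.2 hx) ?_
    rw [Nat.card_zpowers, hP, hox]
  rw [← hz, Subgroup.zpowers_eq_closure, Subgroup.centralizer_closure]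

/-- An element commuting with an element of the order of a self-centralising Sylow subgroup lies in one. -/
theorem pow_eq_one_of_dvd_centralizer {p : ℕ} [Fact p.Prime] (P : Sylow p G) (hP : Nat.card P = p)
    (hCP : Subgroup.centralizer ((P : Subgroup G) : Set G) = P) {x : G}
    (h : p ∣ Nat.card (Subgroup.centralizer ({x} : Set G))) : x ^ p = 1 := by
  obtain ⟨⟨z, hz⟩, hzp⟩ := exists_prime_orderOf_dvd_card' p h
  rw [Subgroup.orderOf_mk] at hzp
  obtain ⟨Q, hQ⟩ := (IsPGroup.of_card (p := p) (n := 1) (G := Subgroup.zpowers z)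
    (by rw [Nat.card_zpowers, hzp, pow_one])).exists_le_sylow
  obtain ⟨g, rfl⟩ := MulAction.exists_smul_eq G P Q
  have hzQ := hQ (Subgroup.mem_zpowers z)
  rw [Sylow.coe_subgroup_smul, Subgroup.mem_pointwise_smul_iff_inv_smul_mem, ← map_inv, MulAut.smul_def,
    MulAut.conj_apply, inv_inv] at hzQ
  have hz1 : g⁻¹ * z * g ≠ 1 := fun e => by
    have h1 : z = 1 := by rw [show z = g * (g⁻¹ * z * g) * g⁻¹ by group, e]; group
    rw [h1, orderOf_one] at hzp
    exact (Fact.out : p.Prime).one_lt.ne hzp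
  have hxC : g⁻¹ * x * g ∈ (P : Subgroup G) := by
    rw [← hCP, ← centralizer_of_mem_prime (P : Subgroup G) hP hzQ hz1, Subgroup.mem_centralizer_singleton_iff]
    have hc : z * x = x * z := Subgroup.mem_centralizer_singleton_iff.1 hz
    calc g⁻¹ * x * g * (g⁻¹ * z * g) = g⁻¹ * (x * z) * g := by group
      _ = g⁻¹ * z * g * (g⁻¹ * x * g) := by rw [← hc]; group
  have h2 := pow_card_eq_one' (x := (⟨_, hxC⟩ : (P : Subgroup G)))
  rw [hP] at h2
  have h3 : (g⁻¹ * x * g) ^ p = 1 := congrArg Subtype.val h2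
  rw [show g⁻¹ * x * g = g⁻¹ * x * g⁻¹⁻¹ by group, conj_pow] at h3
  rwa [inv_inv, mul_eq_one_iff_eq_inv, mul_eq_left] at h3

/-- A lower bound for the elements in the conjugates of a subgroup equal to the centraliser of each of its
non-identity elements. -/
theorem card_family_le (R : Subgroup G) {k : ℕ} (hk : Nat.card R = k)
    (hR : ∀ x ∈ R, x ≠ 1 → Subgroup.centralizer ({x} : Set G) = R) :
    (Subgroup.normalizer (R : Set G)).index * (k - 1) ≤ Nat.card {g : G // g ≠ 1 ∧ g ^ k = 1} := by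
  classical
  subst hk
  have hne : Nat.card {r : R // r ≠ 1} = Nat.card R - 1 := by
    haveI := Fintype.ofFinite R
    rw [Nat.card_eq_fintype_card, Nat.card_eq_fintype_card, Fintype.card_subtype_compl, Fintype.card_subtype_eq]
  rw [← hne, Subgroup.index, ← Nat.card_prod]
  let f : (G ⧸ Subgroup.normalizer (R : Set G)) × {r : R // r ≠ 1} → {g : G // g ≠ 1 ∧ g ^ Nat.card R = 1} :=
    fun q => ⟨q.1.out * (q.2.1 : G) * q.1.out⁻¹,
      fun e => q.2.2 (Subtype.ext (conj_eq_one_iff.1 e)), by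
        rw [conj_pow, conj_eq_one_iff]
        exact congrArg Subtype.val (pow_card_eq_one' (x := q.2.1))⟩
  refine Nat.card_le_card_of_injective f ?_
  rintro ⟨a, r, hr⟩ ⟨b, s, hs⟩ h
  have h1 : a.out * (r : G) * a.out⁻¹ = b.out * (s : G) * b.out⁻¹ := congrArg Subtype.val h
  have hr' : (r : G) ≠ 1 := fun e => hr (Subtype.ext e)
  have hs' : (s : G) ≠ 1 := fun e => hs (Subtype.ext e)
  have hnorm : b.out⁻¹ * a.out ∈ Subgroup.normalizer (R : Set G) := by
    rw [Subgroup.mem_normalizer_iff]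
    intro t
    generalize hg : b.out⁻¹ * a.out = g
    have hs2 : g * (r : G) * g⁻¹ = s := by
      rw [← hg, show b.out⁻¹ * a.out * (r : G) * (b.out⁻¹ * a.out)⁻¹ = b.out⁻¹ * (a.out * r * a.out⁻¹) * b.out by group,
        h1]
      group
    have e1 : ∀ t, t ∈ R ↔ t ∈ Subgroup.centralizer ({(r : G)} : Set G) := fun t => by rw [hR _ r.2 hr']
    have e2 : ∀ t, t ∈ R ↔ t ∈ Subgroup.centralizer ({(s : G)} : Set G) := fun t => by rw [hR _ s.2 hs']
    rw [e1, e2, Subgroup.mem_centralizer_singleton_iff, Subgroup.mem_centralizer_singleton_iff, ← hs2]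
    rw [show g * t * g⁻¹ * (g * r * g⁻¹) = g * (t * r) * g⁻¹ by group,
      show g * r * g⁻¹ * (g * t * g⁻¹) = g * (r * t) * g⁻¹ by group, mul_left_inj, mul_right_inj]
  have hab : a = b := by
    rw [← a.out_eq', ← b.out_eq']
    exact (QuotientGroup.eq.2 hnorm).symm
  subst hab
  rw [mul_left_inj, mul_right_inj] at h1
  exact Prod.ext rfl (Subtype.ext (Subtype.ext h1))

/-- A class of involutions. -/
theorem card_class_le {y : G} (hy : orderOf y = 2) :
    (Subgroup.centralizer ({y} : Set G)).index ≤ Nat.card {g : G // g ≠ 1 ∧ g ^ 2 = 1} := by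
  have hy1 : y ≠ 1 := fun e => by rw [e, orderOf_one] at hy; omega
  rw [Subgroup.index]
  refine Nat.card_le_card_of_injective (fun q => ⟨q.out * y * q.out⁻¹, fun e => hy1 (conj_eq_one_iff.1 e), by
    rw [conj_pow, conj_eq_one_iff, ← hy, pow_orderOf_eq_one]⟩) fun a b h => ?_
  have h1 : a.out * y * a.out⁻¹ = b.out * y * b.out⁻¹ := congrArg Subtype.val h
  rw [← a.out_eq', ← b.out_eq']
  refine QuotientGroup.eq.2 (Subgroup.mem_centralizer_singleton_iff.2 ?_)
  calc a.out⁻¹ * b.out * y = a.out⁻¹ * (b.out * y * b.out⁻¹) * b.out := by group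
    _ = y * (a.out⁻¹ * b.out) := by rw [← h1]; group

/-- The three sets of elements exhaust the group. -/
theorem pow_cover {a b c : ℕ} (hab : a.Coprime b) (hac : a.Coprime c) (hbc : b.Coprime c) {na nb nc : ℕ}
    (ha : na ≤ Nat.card {g : G // g ≠ 1 ∧ g ^ a = 1}) (hb : nb ≤ Nat.card {g : G // g ≠ 1 ∧ g ^ b = 1})
    (hc : nc ≤ Nat.card {g : G // g ≠ 1 ∧ g ^ c = 1}) (hsum : Nat.card G ≤ na + nb + nc + 1) (g : G) (hg : g ≠ 1) :
    g ^ a = 1 ∨ g ^ b = 1 ∨ g ^ c = 1 := by
  classical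
  haveI := Fintype.ofFinite G
  by_contra hno
  simp only [not_or] at hno
  have hcard : ∀ n : ℕ, Nat.card {g : G // g ≠ 1 ∧ g ^ n = 1} =
      (Finset.univ.filter fun x : G => x ≠ 1 ∧ x ^ n = 1).card := fun n => by
    rw [Nat.card_eq_fintype_card, Fintype.card_subtype]
  rw [hcard] at ha hb hc
  set A := Finset.univ.filter fun x : G => x ≠ 1 ∧ x ^ a = 1 with hA
  set B := Finset.univ.filter fun x : G => x ≠ 1 ∧ x ^ b = 1 with hB
  set C := Finset.univ.filter fun x : G => x ≠ 1 ∧ x ^ c = 1 with hC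
  have key : ∀ {m n : ℕ}, m.Coprime n → Disjoint (Finset.univ.filter fun x : G => x ≠ 1 ∧ x ^ m = 1)
      (Finset.univ.filter fun x : G => x ≠ 1 ∧ x ^ n = 1) := fun h => Finset.disjoint_left.2 fun x h1 h2 => by
    simp only [Finset.mem_filter, Finset.mem_univ, true_and] at h1 h2
    exact h1.1 (orderOf_eq_one_iff.1 (Nat.eq_one_of_dvd_coprimes h (orderOf_dvd_of_pow_eq_one h1.2)
      (orderOf_dvd_of_pow_eq_one h2.2)))
  have hu : ((A ∪ B) ∪ C).card = A.card + B.card + C.card := by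
    rw [Finset.card_union_of_disjoint (Finset.disjoint_union_left.2 ⟨key hac, key hbc⟩),
      Finset.card_union_of_disjoint (key hab)]
  have hout : ((A ∪ B) ∪ C) ⊆ Finset.univ \ {1, g} := fun x hx => by
    simp only [hA, hB, hC, Finset.mem_union, Finset.mem_filter, Finset.mem_univ, true_and] at hx
    simp only [Finset.mem_sdiff, Finset.mem_univ, true_and, Finset.mem_insert, Finset.mem_singleton]
    rintro (rfl | rfl)
    · rcases hx with (h | h) | h <;> exact h.1 rfl
    · rcases hx with (h | h) | h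
      exacts [hno.1 h.2, hno.2.1 h.2, hno.2.2 h.2]
  have h1 := Finset.card_le_card hout
  rw [Finset.card_sdiff_of_subset (Finset.subset_univ _), Finset.card_pair (Ne.symm hg), Finset.card_univ,
    ← Nat.card_eq_fintype_card, hu] at h1
  have h2 : 1 < Nat.card G := Finite.one_lt_card_iff_nontrivial.2 ⟨g, 1, hg⟩
  omega

/-- All involution centralisers are elementary abelian of order `q`. -/
theorem iso_psl_even [IsSimpleGroup G] (hG : ¬ IsMulCommutative G) {q a b : ℕ} (hq2 : ∃ f, q = 2 ^ f) (hq : 2 < q)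
    (hdvd : q ∣ Nat.card G) (hnd : ¬ 2 * q ∣ Nat.card G) (ha : Odd a) (hb : Odd b)
    (hC : ∀ y : G, orderOf y = 2 → Nat.card (Subgroup.centralizer ({y} : Set G)) = q)
    (hcover : ∀ g : G, g ≠ 1 → g ^ 2 = 1 ∨ g ^ a = 1 ∨ g ^ b = 1)
    {F : Type v} [Field F] [Fintype F] (hF : Fintype.card F = q) :
    Nonempty (G ≃* Matrix.ProjectiveSpecialLinearGroup (Fin 2) F) := by
  obtain ⟨f, rfl⟩ := hq2
  haveI : Fact (Nat.Prime 2) := ⟨Nat.prime_two⟩
  obtain ⟨T⟩ : Nonempty (Sylow 2 G) := inferInstance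
  obtain ⟨m, hm⟩ := hdvd
  have hm2 : ¬ 2 ∣ m := fun ⟨r, hr⟩ => hnd ⟨r, by rw [hm, hr]; ring⟩
  have hT : Nat.card (T : Subgroup G) = 2 ^ f := sylow_card hm hm2 T
  have hexp : ∀ y : G, orderOf y = 2 → ∀ c ∈ Subgroup.centralizer ({y} : Set G), c ^ 2 = 1 := fun y hy c hc => by
    by_cases hc1 : c = 1
    · rw [hc1, one_pow]
    have ho : orderOf c ∣ 2 ^ f := by
      rw [← hC y hy, ← Subgroup.orderOf_mk c hc]
      exact orderOf_dvd_natCard _
    have hno : ∀ n : ℕ, Odd n → c ^ n ≠ 1 := fun n hn e => hc1 (orderOf_eq_one_iff.1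
      (Nat.eq_one_of_dvd_coprimes ((Nat.coprime_two_left.2 hn).pow_left f) ho (orderOf_dvd_of_pow_eq_one e)))
    rcases hcover c hc1 with h | h | h
    exacts [h, absurd h (hno a ha), absurd h (hno b hb)]
  have hnn : ¬ (T : Subgroup G).Normal := fun h => by
    rcases h.eq_bot_or_eq_top with e | e
    · rw [e, Subgroup.card_bot] at hT; omega
    · rw [e, Subgroup.card_top] at hT
      haveI := IsPGroup.of_card (p := 2) hT
      exact hG (by
        haveI : Group.IsNilpotent G := (IsPGroup.of_card (p := 2) hT).isNilpotent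
        rcases (inferInstance : (Subgroup.center G).Normal).eq_bot_or_eq_top with hz | hz
        · haveI : Nontrivial G := IsSimpleGroup.toNontrivial
          haveI := (IsPGroup.of_card (p := 2) hT).center_nontrivial
          exact absurd hz ((Subgroup.nontrivial_iff_ne_bot _).1 inferInstance)
        · exact ⟨⟨fun g k => Subgroup.mem_center_iff.1 (hz ▸ Subgroup.mem_top k : k ∈ Subgroup.center G) g⟩⟩)
  obtain ⟨y, hy, hy2⟩ := exists_central_involution (G := G) (by
    rw [hm]
    refine dvd_mul_of_dvd_left (dvd_pow_self 2 ?_) m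
    rintro rfl; norm_num at hq)
  have hnc : ¬ IsCyclic (T : Subgroup G) := fun hcyc => by
    obtain ⟨g, hg⟩ := hcyc.exists_generator
    have ho : orderOf (g : G) = 2 ^ f := by
      rw [Subgroup.orderOf_coe, orderOf_eq_card_of_forall_mem_zpowers hg, hT]
    obtain ⟨k, rfl⟩ : ∃ k, f = k + 1 := ⟨f - 1, by rcases f with _ | f <;> [norm_num at hq; rfl]⟩
    have hy' : orderOf ((g : G) ^ 2 ^ k) = 2 := by
      rw [orderOf_pow, ho, Nat.gcd_eq_right (pow_dvd_pow 2 (Nat.le_succ k)), pow_succ,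
        Nat.mul_div_cancel_left _ (by positivity)]
    have h2 : (g : G) ^ 2 = 1 := hexp _ hy' (g : G) (Subgroup.mem_centralizer_singleton_iff.2 (by group))
    have := Nat.le_of_dvd two_pos (ho ▸ orderOf_dvd_of_pow_eq_one h2)
    omega
  obtain ⟨K, _, _, hK, ⟨e⟩⟩ := Cfsg.Agent.S1230.result T hnc hnn fun t ht => ⟨⟨⟨fun c d => Subtype.ext <| by
    have h1 := hexp t ht _ (mul_mem c.2 d.2)
    have h2 := hexp t ht _ c.2
    have h3 := hexp t ht _ d.2
    rw [sq] at h1 h2 h3
    have e1 := inv_eq_of_mul_eq_one_right h1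
    rw [mul_inv_rev, inv_eq_of_mul_eq_one_right h2, inv_eq_of_mul_eq_one_right h3] at e1
    exact e1.symm⟩⟩, hexp t ht⟩
  exact ⟨e.trans (CfsgLib.H29.PSLEleven.pslEquivOfRingEquiv
    (FiniteField.ringEquivOfCardEq (by rw [hK, hT, hF] : Fintype.card K = Fintype.card F)))⟩

/-- The centraliser of an involution from a two member block whose first degree is the full power of two. -/
theorem BlockData.card_centralizer_involution {p : ℕ} {P : Subgroup G} (B : BlockData (G := G) p 2 P)
    (hCP : Subgroup.centralizer (P : Set G) = P) {k : ℕ} {d E' : ℤ} (hk : 0 < k) (hD : ∀ i, B.D i = d)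
    (hd : 2 ^ k ∣ d.natAbs) (hG : ¬ 2 ^ (k + 1) ∣ Nat.card G) (hE : E' = -1 - d) (hE0 : E' ≠ -1) {c : ℕ}
    (hc : (Nat.card G : ℚ) * (1 + 1 / E') = p * (c : ℚ) ^ 2) (hp : p ≠ 0) {y : G} (hy : orderOf y = 2) :
    Nat.card (Subgroup.centralizer ({y} : Set G)) = c := by
  obtain ⟨A, b, -, -, hs, -, -, hV, hzero⟩ := B.invol_full y hy
  obtain ⟨i, hi, hEi⟩ := B.sum_two
  have hA : A i = 0 := hzero i k (by rw [hD i]; exact hd) hk hG
  rw [Finset.sum_eq_single i (fun j _ hj => absurd (hi j) hj) (by simp), hA] at hs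
  have hV' := hV hCP
  rw [Finset.sum_eq_single i (fun j _ hj => absurd (hi j) hj) (by simp), hA, show b = -1 by linarith, hEi, hD i,
    ← hE] at hV'
  push_cast at hV'
  rw [zero_pow two_ne_zero, zero_div, add_zero, neg_one_sq] at hV'
  rcases hV' with h | ⟨h, -⟩
  · rw [hc] at h
    have h1 := mul_left_cancel₀ (Nat.cast_ne_zero.2 hp) h
    have h2 : c ^ 2 = Nat.card (Subgroup.centralizer ({y} : Set G)) ^ 2 := by exact_mod_cast h1
    exact (Nat.pow_left_injective two_ne_zero h2).symm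
  · exfalso
    apply hE0
    have : (1 : ℚ) / E' = -1 := by linarith
    rw [div_eq_iff (by intro e; rw [e] at this; norm_num at this)] at this
    have h3 : (E' : ℚ) = -1 := by linarith
    exact_mod_cast h3

theorem centralizer_eq_of_odd_part {p k : ℕ} [Fact p.Prime] (P : Sylow p G) (hP : Nat.card P = p)
    (hCP : Subgroup.centralizer ((P : Subgroup G) : Set G) = P) {q : ℕ}
    (hC : ∀ y : G, orderOf y = 2 → Nat.card (Subgroup.centralizer ({y} : Set G)) = q)
    (hcard : ∃ f : ℕ, Nat.card G = 2 ^ f * p * k) (hqk : q.Coprime k) (hpk : p.Coprime k) (R : Subgroup G)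
    (hR : Nat.card R = k) (hcomm : ∀ a ∈ R, ∀ b ∈ R, a * b = b * a) {x : G} (hx : x ∈ R) (hx1 : x ≠ 1) :
    Subgroup.centralizer ({x} : Set G) = R := by
  haveI : Fact (Nat.Prime 2) := ⟨Nat.prime_two⟩
  obtain ⟨f, hcard⟩ := hcard
  set c := Nat.card (Subgroup.centralizer ({x} : Set G))
  have hxk : orderOf x ∣ k := by rw [← hR, ← Subgroup.orderOf_mk x hx]; exact orderOf_dvd_natCard _
  have h2 : ¬ 2 ∣ c := fun h => by
    obtain ⟨⟨y, hy⟩, hy2⟩ := exists_prime_orderOf_dvd_card' 2 h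
    rw [Subgroup.orderOf_mk] at hy2
    have hxy : x ∈ Subgroup.centralizer ({y} : Set G) := by
      rw [Subgroup.mem_centralizer_singleton_iff] at hy ⊢
      exact hy.symm
    refine hx1 (orderOf_eq_one_iff.1 (Nat.eq_one_of_dvd_coprimes hqk ?_ hxk))
    rw [← hC y hy2, ← Subgroup.orderOf_mk x hxy]
    exact orderOf_dvd_natCard _
  have hp' : ¬ p ∣ c := fun h => hx1 (orderOf_eq_one_iff.1 (Nat.eq_one_of_dvd_coprimes hpk
    (orderOf_dvd_of_pow_eq_one (pow_eq_one_of_dvd_centralizer P hP hCP h)) hxk))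
  have hle : R ≤ Subgroup.centralizer ({x} : Set G) := fun a ha =>
    Subgroup.mem_centralizer_singleton_iff.2 (hcomm a ha x hx)
  have hck : c ∣ k := by
    refine Nat.Coprime.dvd_of_dvd_mul_left ?_ (hcard ▸ Subgroup.card_subgroup_dvd_card _)
    exact Nat.Coprime.mul_right ((Nat.prime_two.coprime_iff_not_dvd.2 h2).symm.pow_right f)
      ((Fact.out : p.Prime).coprime_iff_not_dvd.2 hp').symm
  refine (Subgroup.eq_of_le_of_card_ge hle ?_).symm
  rw [hR]
  exact Nat.le_of_dvd (hR ▸ Nat.card_pos) hck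

end CfsgLib.SmallOrd
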