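import Mathlib
import Cfsg.Agent.S0991
import Cfsg.Agent.S0989
import Cfsg.Agent.S0990

/-!
Counting tools for excluding orders of finite simple groups.

* `two_mul_card_dvd_factorial` : `2 |G| ∣ [G:H]!` for a proper subgroup
* `sylow_data`                 : `n_p ≠ 1`, `n_p ≡ 1`, `n_p * |N(P)| = |G|`
* `not_normalizer_le_centralizer` : Burnside transfer
* `card_normalizer_dvd_of_succ`: if `|P| = p` and `n_p = p+1` then `2 |N(P)| ∣ p (p-1)`
-/

set_option autoImplicit false

namespace CfsgLib.SmallOrd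

variable {G : Type*} [Group G] [Finite G]

theorem not_comm [IsSimpleGroup G] (h : ¬ (Nat.card G).Prime) : ¬ IsMulCommutative G := fun hc =>
  letI : CommGroup G := { ‹Group G› with mul_comm := hc.is_comm.comm }
  h IsSimpleGroup.prime_card

theorem two_mul_card_dvd_factorial [IsSimpleGroup G] (hG : ¬ IsMulCommutative G) (H : Subgroup G)
    (hH : H ≠ ⊤) : 2 * Nat.card G ∣ H.index.factorial := by
  obtain ⟨f, hf⟩ := Cfsg.Agent.S0991.result hG H hH
  haveI : Nontrivial (Fin H.index) := by
    rw [Fin.nontrivial_iff_two_le]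
    exact H.one_lt_index_of_ne_top hH
  have h := Subgroup.card_dvd_of_injective f hf
  have e := two_mul_card_alternatingGroup (α := Fin H.index)
  rw [Fintype.card_perm, Fintype.card_fin] at e
  rw [← e, ← Nat.card_eq_fintype_card]
  exact Nat.mul_dvd_mul_left 2 h

theorem sylow_card {p k m : ℕ} [Fact p.Prime] (h : Nat.card G = p ^ k * m) (hm : ¬ p ∣ m)
    (P : Sylow p G) : Nat.card (P : Subgroup G) = p ^ k := by
  rw [P.card_eq_multiplicity, h]
  have hm0 : m ≠ 0 := fun e => hm (e ▸ dvd_zero p)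
  rw [Nat.factorization_mul (pow_ne_zero _ (Fact.out : p.Prime).ne_zero) hm0, Finsupp.add_apply,
    (Fact.out : p.Prime).factorization_pow, Finsupp.single_eq_same,
    Nat.factorization_eq_zero_of_not_dvd hm, add_zero]

theorem sylow_data [IsSimpleGroup G] {p : ℕ} [Fact p.Prime] (P : Sylow p G)
    (h0 : (P : Subgroup G) ≠ ⊥) (ht : (P : Subgroup G) ≠ ⊤) :
    Subgroup.normalizer ((P : Subgroup G) : Set G) ≠ ⊤ ∧ Nat.card (Sylow p G) ≠ 1 ∧
      Nat.card (Sylow p G) % p = 1 ∧
      Nat.card (Sylow p G) = (Subgroup.normalizer ((P : Subgroup G) : Set G)).index ∧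
      Nat.card (Sylow p G) * Nat.card (Subgroup.normalizer ((P : Subgroup G) : Set G)) = Nat.card G := by
  have hN : Subgroup.normalizer ((P : Subgroup G) : Set G) ≠ ⊤ := fun h => by
    haveI := Subgroup.normalizer_eq_top_iff.mp h
    exact (Subgroup.Normal.eq_bot_or_eq_top this).elim h0 ht
  have he : Nat.card (Sylow p G) = (Subgroup.normalizer ((P : Subgroup G) : Set G)).index :=
    P.card_eq_index_normalizer
  refine ⟨hN, ?_, ?_, he, ?_⟩
  · rw [he]; exact fun h => hN (Subgroup.index_eq_one.mp h)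
  · have := card_sylow_modEq_one p G
    rwa [Nat.ModEq, Nat.one_mod_eq_one.mpr (Fact.out : p.Prime).one_lt.ne'] at this
  · rw [he, Subgroup.index_mul_card]

/-- Burnside's transfer theorem. -/
theorem not_normalizer_le_centralizer [IsSimpleGroup G] {p : ℕ} [Fact p.Prime] (P : Sylow p G)
    (h0 : (P : Subgroup G) ≠ ⊥) (ht : (P : Subgroup G) ≠ ⊤) :
    ¬ Subgroup.normalizer ((P : Subgroup G) : Set G) ≤ Subgroup.centralizer ((P : Subgroup G) : Set G) := by
  intro h
  have hc := MonoidHom.ker_transferSylow_isComplement' P h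
  rcases (MonoidHom.transferSylow P h).normal_ker.eq_bot_or_eq_top with e | e
  · rw [e, Subgroup.isComplement'_bot_left] at hc
    exact ht hc
  · rw [e, Subgroup.isComplement'_top_left] at hc
    exact h0 hc

theorem card_normalizer_dvd_of_succ [IsSimpleGroup G] {p : ℕ} [Fact p.Prime] (hp2 : p ≠ 2)
    (hG : ¬ IsMulCommutative G) (P : Sylow p G) (hP : Nat.card (P : Subgroup G) = p)
    (hn : Nat.card (Sylow p G) = p + 1) :
    2 * Nat.card (Subgroup.normalizer ((P : Subgroup G) : Set G)) ∣ p * (p - 1) := by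
  classical
  have hp := (Fact.out : p.Prime)
  set N := Subgroup.normalizer ((P : Subgroup G) : Set G) with hNdef
  have hidx : N.index = p + 1 := P.card_eq_index_normalizer.symm.trans hn
  have hNt : N ≠ ⊤ := fun h => by
    rw [h, Subgroup.index_top] at hidx
    have := hp.two_le
    omega
  obtain ⟨f, hf⟩ := Cfsg.Agent.S0991.result hG N hNt
  set φ : G →* Equiv.Perm (Fin N.index) := (alternatingGroup (Fin N.index)).subtype.comp f
  have hφ : Function.Injective φ := Subtype.val_injective.comp hf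
  have hfac : (p + 1).factorial.factorization p = 1 := by
    rw [Nat.factorial_succ, Nat.factorization_mul (Nat.succ_ne_zero p) (Nat.factorial_ne_zero _),
      Finsupp.add_apply, Nat.factorization_eq_zero_of_not_dvd, zero_add,
      ← Nat.mul_factorial_pred hp.ne_zero, Nat.factorization_mul hp.ne_zero (Nat.factorial_ne_zero _),
      Finsupp.add_apply, hp.factorization_self, Nat.factorization_eq_zero_of_not_dvd]
    · rw [hp.dvd_factorial]
      have := hp.two_le
      omega
    · intro hd
      have h1 := Nat.le_of_dvd one_pos ((Nat.dvd_add_right (dvd_refl p)).mp hd)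
      have := hp.two_le
      omega
  let P' : Sylow p (Equiv.Perm (Fin N.index)) := Sylow.ofCard ((P : Subgroup G).map φ) (by
    rw [Subgroup.card_map_of_injective hφ, hP, Nat.card_perm, Nat.card_fin, hidx, hfac, pow_one])
  have hα : 2 ≤ Fintype.card (Fin N.index) := by
    rw [Fintype.card_fin, hidx]; have := hp.two_le; omega
  obtain ⟨-, h2⟩ := Cfsg.Agent.S0990.result hα p hp2 P'
  rw [Cfsg.Agent.S0989.result p (Or.inr (by rw [Fintype.card_fin, hidx])) P'] at h2
  rw [← h2]
  refine Nat.mul_dvd_mul_left 2 ?_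
  rw [← Subgroup.card_map_of_injective hf]
  refine Subgroup.card_dvd_of_le ?_
  rintro _ ⟨n, hn', rfl⟩
  rw [Subgroup.mem_normalizer_iff]
  intro x
  simp only [Subgroup.mem_subgroupOf, Subgroup.coe_mul, Subgroup.coe_inv]
  change (x : Equiv.Perm (Fin N.index)) ∈ (P : Subgroup G).map φ ↔
    φ n * (x : Equiv.Perm (Fin N.index)) * (φ n)⁻¹ ∈ (P : Subgroup G).map φ
  constructor
  · rintro ⟨y, hy, e⟩
    exact ⟨n * y * n⁻¹, (Subgroup.mem_normalizer_iff.mp hn' y).mp hy, by rw [map_mul, map_mul, map_inv, e]⟩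
  · rintro ⟨y, hy, e⟩
    refine ⟨n⁻¹ * y * n, (Subgroup.mem_normalizer_iff.mp hn' _).mpr ?_, ?_⟩
    · have : n * (n⁻¹ * y * n) * n⁻¹ = y := by group
      rw [this]; exact hy
    · rw [map_mul, map_mul, map_inv, e]; group

theorem mem_divisors_filter {n m p : ℕ} (hm : m ≠ 0) (h : n ∣ m) (h' : n % p = 1) :
    n ∈ (Nat.divisors m).filter (fun d => d % p = 1) :=
  Finset.mem_filter.mpr ⟨Nat.mem_divisors.mpr ⟨h, hm⟩, h'⟩

end CfsgLib.SmallOrd
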