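import Cfsg.Agent.SmallOrders.Search

/-!
An element of order `p` inverted by an involution in a simple group with a subgroup of index `p`.
-/

set_option autoImplicit false
set_option linter.style.haveILetI false

namespace CfsgLib.SmallOrd

open Equiv.Perm

universe u

variable {G : Type u} [Group G] [Finite G]

theorem false_of_inverted [IsSimpleGroup G] (hG : ¬ IsMulCommutative G) {p : ℕ} [Fact p.Prime] (hp4 : p % 4 = 3)
    (H : Subgroup G) (hH : H.index = p) {x y : G} (hx : orderOf x = p) (hy : orderOf y = 2)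
    (hxy : y * x * y⁻¹ = x⁻¹) : False := by
  classical
  have hp : p.Prime := Fact.out
  haveI := Fintype.ofFinite (G ⧸ H)
  set f := MulAction.toPermHom G (G ⧸ H)
  have hα : Fintype.card (G ⧸ H) = p := by rw [← Nat.card_eq_fintype_card]; exact hH
  have hinj : Function.Injective f := by
    rw [← MonoidHom.ker_eq_bot_iff]
    refine (MonoidHom.normal_ker f).eq_bot_or_eq_top.resolve_right fun hk => hp.ne_one ?_
    rw [← hH, Subgroup.index_eq_one]
    refine eq_top_iff.2 fun g _ => ?_
    have hg : f g = 1 := MonoidHom.mem_ker.1 (hk ▸ Subgroup.mem_top g)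
    have h1 := congrArg (fun s : Equiv.Perm (G ⧸ H) => s ((1 : G) : G ⧸ H)) hg
    change ((g * 1 : G) : G ⧸ H) = ((1 : G) : G ⧸ H) at h1
    rw [mul_one] at h1
    simpa using QuotientGroup.eq.1 h1.symm
  set σ := f x with hσd
  set τ := f y with hτd
  have hσo : orderOf σ = p := by rw [hσd, orderOf_injective f hinj x, hx]
  have hτo : orderOf τ = 2 := by rw [hτd, orderOf_injective f hinj y, hy]
  have hσc : σ.IsCycle := isCycle_of_prime_order'' (hα.symm ▸ hp) (hσo.trans hα.symm)
  have hsupp : σ.support = Finset.univ := Finset.eq_univ_of_card _ (by rw [← hσc.orderOf, hσo, hα])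
  have hconj : τ * σ * τ⁻¹ = σ⁻¹ := by rw [hσd, hτd, ← map_inv, ← map_mul, ← map_mul, hxy, map_inv]
  have hfix : ∀ a b, τ a = a → τ b = b → a = b := by
    intro a b ha hb
    have hmv : ∀ c, σ c ≠ c := fun c => mem_support.1 (hsupp ▸ Finset.mem_univ c)
    obtain ⟨i, hi⟩ := hσc.exists_pow_eq (hmv a) (hmv b)
    have h1 : (σ⁻¹ ^ i) a = b := by
      rw [← hconj, conj_pow, Equiv.Perm.mul_apply, Equiv.Perm.mul_apply,
        show τ⁻¹ a = a from Equiv.Perm.inv_eq_iff_eq.2 ha.symm, hi, hb]
    have h2 : (σ ^ (2 * i)) a = a := by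
      rw [two_mul, pow_add, Equiv.Perm.mul_apply, hi, ← h1, inv_pow]
      exact (σ ^ i).apply_symm_apply a
    have h3 := hσo ▸ orderOf_dvd_of_pow_eq_one ((hσc.pow_eq_one_iff' (hmv a)).2 h2)
    obtain ⟨k, hk⟩ : p ∣ i := (hp.dvd_mul.1 h3).resolve_left fun h => by
      have := Nat.le_of_dvd two_pos h
      interval_cases p <;> omega
    rw [← hi, hk, pow_mul, ← hσo, pow_orderOf_eq_one, one_pow, Equiv.Perm.one_apply]
  have hsup : p ≤ τ.support.card + 1 := by
    have h1 : τ.supportᶜ.card ≤ 1 := Finset.card_le_one.2 fun a ha b hb => by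
      simp only [Finset.mem_compl, mem_support, not_not] at ha hb
      exact hfix a b ha hb
    rw [Finset.card_compl, hα] at h1
    omega
  have hle : τ.support.card ≤ p := hα ▸ Finset.card_le_univ _
  obtain ⟨n, hn⟩ := cycleType_prime_order (σ := τ) (by rw [hτo]; exact Nat.prime_two)
  rw [hτo] at hn
  have hsum : 2 * (n + 1) = τ.support.card := by
    rw [← τ.sum_cycleType, hn, Multiset.sum_replicate, smul_eq_mul, mul_comm]
  have hsign : sign τ = 1 := monoidHom_eq_one hG (sign.comp f) y
  rw [sign_of_cycleType, hn, Multiset.sum_replicate, Multiset.card_replicate, smul_eq_mul,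
    neg_one_pow_eq_one_iff_even (by decide)] at hsign
  obtain ⟨m, hm⟩ := hsign
  omega

end CfsgLib.SmallOrd
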