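import Cfsg.Agent.SmallOrders.PSLRecognise
import Cfsg.Agent.S0144
import Cfsg.Agent.S0992

/-!
Certificates excluding an order for a simple group by the Sylow theorems, Burnside's theorem and transfer.
-/

set_option autoImplicit false
set_option linter.style.haveILetI false

namespace CfsgLib.SmallOrd

universe u

/-- The admissible numbers of Sylow `p`-subgroups in a simple group of order `n = p ^ a * m`. -/
def okSyl (n p a m d : ℕ) : Bool :=
  decide (m % d = 0) && decide (d % p = 1) && decide (d ≠ 1) &&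
  (decide (12 < d) ||
    (decide (d.factorial % (2 * n) = 0) &&
      (decide (d.factorial = 2 * n) || decide (2 * n * d ≤ d.factorial)))) &&
  (decide (a ≠ 1) || decide (p = 2) ||
    (decide (Nat.gcd (p - 1) (n / d / p) ≠ 1) &&
      (decide (d ≠ p + 1) ||
        (decide ((p * (p - 1)) % (2 * (n / d)) = 0) &&
          (decide (2 ^ Nat.log2 (p + 1) = p + 1) || decide (2 * n = (p + 1) * p * (p - 1)))))))

theorem card_mul_le_factorial {G : Type u} [Group G] [Finite G] [IsSimpleGroup G] (hG : ¬ IsMulCommutative G)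
    (H : Subgroup G) (hH : H ≠ ⊤) :
    H.index.factorial = 2 * Nat.card G ∨ 2 * Nat.card G * H.index ≤ H.index.factorial := by
  have h2 : 2 ≤ H.index := by
    have h0 : H.index ≠ 0 := Subgroup.index_ne_zero_of_finite
    have h1 : H.index ≠ 1 := fun e => hH (Subgroup.index_eq_one.1 e)
    omega
  obtain ⟨f, hf⟩ := Cfsg.Agent.S0991.result hG H hH
  haveI : Nontrivial (Fin H.index) := Fintype.one_lt_card_iff_nontrivial.1 (by rw [Fintype.card_fin]; omega)
  have hA : 2 * Nat.card (alternatingGroup (Fin H.index)) = H.index.factorial := by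
    rw [two_mul_nat_card_alternatingGroup, Nat.card_perm, Nat.card_fin]
  have hR : Nat.card f.range = Nat.card G := Nat.card_congr (MonoidHom.ofInjective hf).toEquiv.symm
  have hm : Nat.card G * f.range.index = Nat.card (alternatingGroup (Fin H.index)) := hR ▸ f.range.card_mul_index
  by_cases htop : f.range = ⊤
  · left
    rw [htop, Subgroup.index_top, mul_one] at hm
    rw [← hA, hm]
  right
  have hd5 : 5 ≤ H.index := by
    by_contra hlt
    -- the alternating groups of small degree are solvable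
    have hdvd := two_mul_card_dvd_factorial hG H hH
    have h24 : H.index.factorial ∣ 24 := (Nat.factorial_dvd_factorial (show H.index ≤ 4 by omega))
    have h12 : Nat.card G ∣ 2 ^ 2 * 3 ^ 1 :=
      (Nat.mul_dvd_mul_iff_left (show 0 < 2 by norm_num)).1 (hdvd.trans h24)
    obtain ⟨a, b, ha, hb, he⟩ : ∃ a b, a ≤ 2 ∧ b ≤ 1 ∧ Nat.card G = 2 ^ a * 3 ^ b := by
      obtain ⟨x, y, hx, hy, hxy⟩ := Nat.dvd_mul.1 h12
      obtain ⟨a, ha, rfl⟩ := (Nat.dvd_prime_pow Nat.prime_two).1 hx
      obtain ⟨b, hb, rfl⟩ := (Nat.dvd_prime_pow Nat.prime_three).1 hy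
      exact ⟨a, b, ha, hb, hxy.symm⟩
    haveI hs := Cfsg.Agent.S0144.result 2 3 a b Nat.prime_two Nat.prime_three he
    exact hG ⟨⟨IsSimpleGroup.comm_iff_isSolvable.2 hs⟩⟩
  haveI := alternatingGroup.isSimpleGroup (α := Fin H.index) (by rw [Nat.card_fin]; exact hd5)
  have hAc : ¬ IsMulCommutative (alternatingGroup (Fin H.index)) := fun h =>
    hG ⟨⟨fun a b => hf (by rw [map_mul, map_mul]; exact h.is_comm.comm _ _)⟩⟩
  have hk := two_mul_card_dvd_factorial hAc f.range htop
  rw [hA] at hk
  have hle : H.index ≤ f.range.index := by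
    by_contra hlt
    have := Nat.le_of_dvd (Nat.factorial_pos _) hk
    have := (Nat.factorial_lt (Nat.pos_of_ne_zero Subgroup.index_ne_zero_of_finite)).2 (not_le.1 hlt)
    omega
  calc 2 * Nat.card G * H.index ≤ 2 * Nat.card G * f.range.index := Nat.mul_le_mul_left _ hle
    _ = H.index.factorial := by rw [mul_assoc, hm, hA]

/-- The number of Sylow subgroups passes the test. -/
theorem okSyl_card {G : Type u} [Group G] [Finite G] [IsSimpleGroup G] (hG : ¬ IsMulCommutative G) {p a m : ℕ}
    [Fact p.Prime] (h : Nat.card G = p ^ a * m) (hm : ¬ p ∣ m) (ha : 0 < a) (P : Sylow p G) :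
    Nat.card (Sylow p G) ∈ (List.range (m + 1)).filter (okSyl (Nat.card G) p a m) := by
  have hp : p.Prime := Fact.out
  have hP := sylow_card h hm P
  have h0 : (P : Subgroup G) ≠ ⊥ := fun e => by
    rw [e, Subgroup.card_bot] at hP
    exact (Nat.one_lt_pow ha.ne' hp.one_lt).ne hP
  have ht : (P : Subgroup G) ≠ ⊤ := fun e => by
    rw [e, Subgroup.card_top] at hP
    haveI hs := Cfsg.Agent.S0144.result (G := G) p p a 0 hp hp (by rw [hP, pow_zero, mul_one])
    exact hG ⟨⟨IsSimpleGroup.comm_iff_isSolvable.2 hs⟩⟩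
  obtain ⟨hN, hne, hmod, hidx, hmul⟩ := sylow_data P h0 ht
  have hdvd : Nat.card (Sylow p G) ∣ m := by
    have h1 := P.card_dvd_index
    rwa [show (P : Subgroup G).index = m from Nat.eq_of_mul_eq_mul_left (pow_pos hp.pos a)
      (by rw [← hP, Subgroup.card_mul_index, h, hP])] at h1
  have hm0 : 0 < m := Nat.pos_of_ne_zero fun e => hm (e ▸ dvd_zero p)
  have hf := two_mul_card_dvd_factorial hG _ hN
  rw [← hidx] at hf
  have hle := card_mul_le_factorial hG _ hN
  rw [← hidx] at hle
  set d := Nat.card (Sylow p G)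
  have hN' : Nat.card G / d = Nat.card (Subgroup.normalizer ((P : Subgroup G) : Set G)) := by
    rw [← hmul, Nat.mul_div_cancel_left _ Nat.card_pos]
  simp only [List.mem_filter, List.mem_range, okSyl, Bool.and_eq_true, Bool.or_eq_true, decide_eq_true_eq]
  refine ⟨Nat.lt_succ_of_le (Nat.le_of_dvd hm0 hdvd),
    ⟨⟨⟨Nat.mod_eq_zero_of_dvd hdvd, hmod⟩, hne⟩, Or.inr ⟨Nat.mod_eq_zero_of_dvd hf, hle⟩⟩, ?_⟩
  by_cases ha1 : a = 1
  swap
  · exact Or.inl (Or.inl ha1)
  by_cases hp2 : p = 2
  · exact Or.inl (Or.inr hp2)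
  subst ha1
  rw [pow_one] at h hP
  refine Or.inr ⟨fun hg => ?_, ?_⟩
  · obtain ⟨L⟩ := exists_localData P hP (fun e => hG (by
      haveI := isCyclic_of_prime_card (α := G) e
      exact IsCyclic.isMulCommutative))
    refine L.e_ne (Nat.eq_one_of_dvd_one (hg ▸ Nat.dvd_gcd L.e_dvd ?_))
    obtain ⟨c, hc⟩ := L.p_dvd
    refine ⟨c, ?_⟩
    rw [hN', ← L.hN, ← L.e_mul, hc, show L.e * (p * c) = p * (L.e * c) by ring, Nat.mul_div_cancel_left _ hp.pos]
  · by_cases hd : d = p + 1
    swap
    · exact Or.inl hd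
    refine Or.inr ⟨?_, ?_⟩
    · rw [hN']
      exact Nat.mod_eq_zero_of_dvd (card_normalizer_dvd_of_succ hp2 hG P hP hd)
    by_cases h2 : 2 ^ Nat.log2 (p + 1) = p + 1
    · exact Or.inl h2
    right
    by_contra hne2
    have hq : ∀ q : ℕ, p + 1 ≠ 2 ^ q := fun q e => h2 (by rw [e, Nat.log2_two_pow])
    obtain ⟨c, hc⟩ : Nat.card (Subgroup.normalizer ((P : Subgroup G) : Set G)) * 2 ∣ p * (p - 1) := by
      rw [mul_comm _ 2]; exact card_normalizer_dvd_of_succ hp2 hG P hP hd
    set N := Nat.card (Subgroup.normalizer ((P : Subgroup G) : Set G))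
    have hpN : p ∣ N := hP ▸ Subgroup.card_dvd_of_le Subgroup.le_normalizer
    obtain ⟨k, hk⟩ := hpN
    classical
    haveI := Fintype.ofFinite (Sylow p G)
    set f := MulAction.toPermHom G (Sylow p G)
    have hinj : Function.Injective f := by
      rw [← MonoidHom.ker_eq_bot_iff]
      refine (MonoidHom.normal_ker f).eq_bot_or_eq_top.resolve_right fun hk' => ?_
      have hsub : Subsingleton (Sylow p G) := ⟨fun A B => by
        obtain ⟨g, rfl⟩ := MulAction.exists_smul_eq G A B
        exact (congrArg (fun s : Equiv.Perm (Sylow p G) => s A) (MonoidHom.mem_ker.1 (hk' ▸ Subgroup.mem_top g))).symm⟩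
      exact hne (Nat.card_of_subsingleton P)
    haveI : MulAction.IsPretransitive f.range (Sylow p G) := ⟨fun A B => by
      obtain ⟨g, hg⟩ := MulAction.exists_smul_eq G A B
      exact ⟨⟨f g, g, rfl⟩, hg⟩⟩
    have hcard : Nat.card f.range = (p + 1) * p * k := by
      rw [← Nat.card_congr (MonoidHom.ofInjective hinj).toEquiv, ← hmul, hd, hk, mul_assoc]
    have hkp : k * 2 * c = p - 1 := by
      refine Nat.eq_of_mul_eq_mul_left hp.pos ?_
      rw [hc, hk]; ring
    have hk2 : 2 * k ≤ p - 1 := by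
      rw [← hkp, mul_comm 2 k]
      rcases Nat.eq_zero_or_pos c with rfl | hc0
      · have := hp.two_le
        omega
      · exact Nat.le_mul_of_pos_right _ hc0
    rcases Cfsg.Agent.S0732.result hp (by rw [← Nat.card_eq_fintype_card]; exact hd) f.range hcard
        (by have := hp.two_le; omega) with ⟨e1, -⟩ | ⟨e2, -⟩ | ⟨q, -, e3, -⟩
    · have := hp.two_le
      omega
    · apply hne2
      rw [← hmul, hd, hk, ← e2]
      ring
    · exact hq q e3

/-- Trial division. -/
def isPrimeB (p : ℕ) : Bool :=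
  decide (2 ≤ p) && decide (p < 80 * 80) &&
    (List.range 80).all fun i => decide (i < 2) || decide (p < i * i) || decide (p % i ≠ 0)

theorem prime_of_isPrimeB {p : ℕ} (h : isPrimeB p = true) : p.Prime := by
  simp only [isPrimeB, Bool.and_eq_true, decide_eq_true_eq, List.all_eq_true, List.mem_range, Bool.or_eq_true] at h
  obtain ⟨⟨h2, h80⟩, hall⟩ := h
  refine Nat.prime_def_le_sqrt.2 ⟨h2, fun i hi hsq hdvd => ?_⟩
  have hii : i * i ≤ p := Nat.le_sqrt.1 hsq
  have hi80 : i < 80 := by nlinarith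
  rcases hall i hi80 with (h | h) | h
  · omega
  · omega
  · exact h (Nat.mod_eq_zero_of_dvd hdvd)

/-- A reason for an order not to be that of a non-abelian simple group. -/
inductive Cert where
  | two (p a q b : ℕ)
  | four
  | syl (p a m : ℕ)
  | keep

/-- The validity of a certificate. -/
def Cert.check (n : ℕ) : Cert → Bool
  | .two p a q b => decide (n = 0) || (isPrimeB p && isPrimeB q && decide (n = p ^ a * q ^ b))
  | .four => decide (n % 4 = 2)
  | .syl p a m => isPrimeB p && decide (0 < a) && decide (m % p ≠ 0) && decide (n = p ^ a * m) &&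
      ((List.range (m + 1)).filter (okSyl n p a m)).isEmpty
  | .keep => true

theorem Cert.eq_keep {G : Type u} [Group G] [Finite G] [IsSimpleGroup G] (hG : ¬ IsMulCommutative G) {c : Cert}
    (h : c.check (Nat.card G) = true) : c = .keep := by
  rcases c with ⟨p, a, q, b⟩ | _ | ⟨p, a, m⟩ | _
  · simp only [Cert.check, Bool.and_eq_true, Bool.or_eq_true, decide_eq_true_eq] at h
    rcases h with h | ⟨⟨hp, hq⟩, he⟩
    · exact absurd h Nat.card_pos.ne'
    · haveI hs := Cfsg.Agent.S0144.result (G := G) p q a b (prime_of_isPrimeB hp) (prime_of_isPrimeB hq) he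
      exact absurd ⟨⟨IsSimpleGroup.comm_iff_isSolvable.2 hs⟩⟩ hG
  · simp only [Cert.check, decide_eq_true_eq] at h
    obtain ⟨T⟩ : Nonempty (Sylow 2 G) := inferInstance
    have hk := (Cfsg.Agent.S0992.result hG (Nat.even_iff.2 (by omega)) (by omega) T).1.card_four
    have := Subgroup.card_subgroup_dvd_card (T : Subgroup G)
    rw [hk] at this
    omega
  · simp only [Cert.check, Bool.and_eq_true, decide_eq_true_eq, List.isEmpty_iff] at h
    obtain ⟨⟨⟨⟨hp, ha⟩, hm⟩, he⟩, hl⟩ := h
    haveI : Fact p.Prime := ⟨prime_of_isPrimeB hp⟩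
    obtain ⟨P⟩ : Nonempty (Sylow p G) := inferInstance
    have := okSyl_card hG he (fun hd => hm (Nat.mod_eq_zero_of_dvd hd)) ha P
    rw [hl] at this
    exact absurd this List.not_mem_nil
  · rfl

/-- An order covered by a checked list of certificates is one of the remaining ones. -/
theorem mem_of_checks {G : Type u} [Group G] [Finite G] [IsSimpleGroup G] (hG : ¬ IsMulCommutative G) {lo : ℕ}
    {cs : List Cert} {ks : List ℕ} (hc : (cs.zipIdx.all fun x => x.1.check (lo + x.2)) = true)
    (hk : (cs.zipIdx.all fun x => !(x.1 matches .keep) || decide (lo + x.2 ∈ ks)) = true) (h1 : lo ≤ Nat.card G)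
    (h2 : Nat.card G < lo + cs.length) : Nat.card G ∈ ks := by
  have hi : Nat.card G - lo < cs.length := by omega
  have hmem : (cs[Nat.card G - lo], Nat.card G - lo) ∈ cs.zipIdx :=
    List.mem_zipIdx_iff_getElem?.2 (List.getElem?_eq_getElem hi)
  rw [List.all_eq_true] at hc hk
  have e : lo + (Nat.card G - lo) = Nat.card G := by omega
  have h3 := hc _ hmem
  rw [e] at h3
  have h4 := hk _ hmem
  rw [Cert.eq_keep hG h3, e] at h4
  simpa using h4

end CfsgLib.SmallOrd
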