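import Cfsg.Agent.S4441
import Cfsg.Agent.DefectOne.Bridge
import Cfsg.Agent.Blocks.Idempotent
import Cfsg.Agent.Blocks.Glauberman
import Cfsg.Agent.Blocks.DetTwist
import Cfsg.Agent.CharBasics.Burnside
import Cfsg.Agent.CharBasics.Central
import Cfsg.Agent.CharBasics.Extra

/-!
The principal block of a simple group with a Sylow subgroup of order `p`, in integers.

Each member is encoded by its degree and its value at an involution, both multiplied by its sign, so that the block
relation reads `1 + ∑ D + E = 0` and the structure constant of an involution class is `1 + ∑ A² / D + B² / E`.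
-/

set_option autoImplicit false
set_option linter.style.haveILetI false

namespace CfsgLib.SmallOrd

open Cfsg CfsgLib.CharBasics
open scoped ComplexConjugate

universe u

variable {G : Type u} [Group G] [Finite G]

/-- The signed value `A` at an involution of a nontrivial character of signed degree `D`. -/
def Valid (D A : ℤ) : Prop := |A| < |D| ∧ 4 ∣ A - D

theorem Valid.two_mul_lt {D A : ℤ} {p : ℕ} (hp : Odd p) (h : Valid D A) (hd : (p : ℤ) ∣ A - D) :
    2 * (p : ℤ) < |D| := by
  have hco : IsCoprime (4 : ℤ) (p : ℤ) := by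
    rw [Int.isCoprime_iff_nat_coprime]
    exact (Nat.coprime_two_left.2 hp).pow_left 2
  have h4p : 4 * (p : ℤ) ∣ |A - D| := (dvd_abs _ _).2 (hco.mul_dvd h.2 hd)
  have hne : A - D ≠ 0 := fun e => by
    rw [sub_eq_zero.1 e] at h
    exact lt_irrefl _ h.1
  have h1 := Int.le_of_dvd (abs_pos.2 hne) h4p
  have h2 := abs_sub A D
  have := h.1
  omega

theorem exists_involution_value [IsSimpleGroup G] (hG : ¬ IsMulCommutative G) (χ : IrrCharacter G)
    (hχ : χ ≠ oneChar) {y : G} (hy : orderOf y = 2) :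
    ∃ a : ℤ, (χ : G → ℂ) y = a ∧ |a| < (charDegree (χ : G → ℂ) : ℤ) ∧
      4 ∣ a - (charDegree (χ : G → ℂ) : ℤ) := by
  classical
  haveI := Fintype.ofFinite G
  have hc := isCharacter_of_irr χ.2
  set d := charDegree (χ : G → ℂ)
  obtain ⟨lam, hl, hv⟩ := exists_eigen hc y
  have hpm : ∀ i, lam i = 1 ∨ lam i = -1 := fun i => sq_eq_one_iff.1 (hy ▸ hl i)
  set s := Finset.univ.filter fun i : Fin d => lam i = -1
  have hval : (χ : G → ℂ) y = ((d : ℤ) - 2 * s.card : ℤ) := by
    have h1 : ∀ i, lam i = 1 - 2 * (if lam i = -1 then 1 else 0 : ℂ) := fun i => by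
      rcases hpm i with h | h <;> rw [h] <;> norm_num
    have h2 : (χ : G → ℂ) y = ∑ i, lam i := by simpa using hv 1
    rw [h2, Finset.sum_congr rfl fun i _ => h1 i, Finset.sum_sub_distrib, ← Finset.mul_sum, Finset.sum_boole]
    simp [s, d]
  have heven : Even s.card := by
    have hdet : detChar (χ : G → ℂ) y = ∏ i, lam i := DetTwist.detChar_eq_prod χ.2 lam hv
    obtain ⟨μ, hμ⟩ := Clifford.exists_detHom χ.2
    have htriv : μ y = 1 := by
      have hle : commutator G ≤ μ.toHomUnits.ker := Abelianization.commutator_subset_ker _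
      rcases (inferInstance : (commutator G).Normal).eq_bot_or_eq_top with h | h
      · exact absurd ⟨⟨fun a b => commutatorElement_eq_one_iff_mul_comm.1 (Subgroup.mem_bot.1
          (h ▸ Subgroup.commutator_mem_commutator (Subgroup.mem_top a) (Subgroup.mem_top b)))⟩⟩ hG
      · have := hle (h ▸ Subgroup.mem_top y)
        exact congrArg Units.val (MonoidHom.mem_ker.1 this)
    simp only [hμ] at hdet
    have h1 : ∏ i, lam i = (-1 : ℂ) ^ s.card := by
      rw [show s = Finset.univ.filter fun i : Fin d => lam i = -1 from rfl, ← Finset.prod_const, Finset.prod_filter]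
      exact Finset.prod_congr rfl fun i _ => by
        rcases hpm i with h | h <;> rw [h] <;> norm_num
    rw [htriv, h1] at hdet
    exact neg_one_pow_eq_one_iff_even (by norm_num) |>.1 hdet.symm
  obtain ⟨k, hk⟩ := heven
  have hsd : s.card ≤ d := by simpa using s.card_le_univ
  have hlt : ‖(χ : G → ℂ) y‖ ≠ (d : ℝ) := by
    intro hnorm
    have hy1 : y ≠ 1 := fun e => by rw [e, orderOf_one] at hy; omega
    rcases (charKer_normal hc).eq_bot_or_eq_top with hker | hker
    · have hcent : y ∈ Subgroup.center G := Subgroup.mem_center_iff.2 fun x => by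
        have h1 : x * y * x⁻¹ * y⁻¹ ∈ charKer _ hc := commutator_mem_charKer χ.2 hnorm x
        rw [hker, Subgroup.mem_bot, mul_inv_eq_one, mul_inv_eq_iff_eq_mul] at h1
        exact h1
      rcases (inferInstance : (Subgroup.center G).Normal).eq_bot_or_eq_top with h | h
      · exact hy1 (Subgroup.mem_bot.1 (h ▸ hcent))
      · exact hG ⟨⟨fun a b => (Subgroup.mem_center_iff.1 (h ▸ Subgroup.mem_top b : b ∈ Subgroup.center G) a)⟩⟩
    · have hall : ∀ x : G, (χ : G → ℂ) x = (χ : G → ℂ) 1 := fun x => by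
        rw [← mem_charKer hc, hker]; trivial
      have h0 := sum_irr_eq_zero χ.2 (fun h => hχ (Subtype.ext h))
      rw [Finset.sum_congr rfl (fun x _ => hall x), Finset.sum_const, nsmul_eq_mul] at h0
      rcases mul_eq_zero.mp h0 with h | h
      · exact (Fintype.card_ne_zero (α := G)) (Nat.cast_eq_zero (R := ℂ) |>.mp (by simpa using h))
      · exact apply_one_ne_zero χ.2 h
  refine ⟨_, hval, ?_, ⟨-(k : ℤ), by omega⟩⟩
  rw [hval, Complex.norm_intCast] at hlt
  have h3 : |(d : ℤ) - 2 * s.card| ≤ d := abs_le.2 ⟨by omega, by omega⟩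
  refine lt_of_le_of_ne h3 fun e => hlt ?_
  exact_mod_cast e

/-- The congruence at an involution centralising an element of order `p`. -/
theorem value_congr {p : ℕ} (hp : p.Prime) (hp2 : p ≠ 2) {χ : G → ℂ} (hχ : IsCharacter G χ) {x y : G}
    (hx : orderOf x = p) (hy : orderOf y = 2) (hxy : Commute x y) {s a : ℤ} (ha : χ y = a)
    (hs : ∀ j : ℕ, ¬ p ∣ j → χ (x ^ j) = s ∧ χ (x ^ j * y) = s)
    (hd : (p : ℤ) ∣ (charDegree χ : ℤ) - s) : (p : ℤ) ∣ a - (charDegree χ : ℤ) := by
  classical
  have hodd := hp.odd_of_ne_two hp2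
  have hco : (orderOf x).Coprime (orderOf y) := by rw [hx, hy]; exact Nat.coprime_two_right.2 hodd
  have hw : orderOf (x * y) = 2 * p := by rw [hxy.orderOf_mul_eq_mul_orderOf_of_coprime hco, hx, hy, mul_comm]
  obtain ⟨lam, hl, hv⟩ := exists_eigen hχ (x * y)
  rw [hw] at hl
  -- the average is the multiplicity of the eigenvalue `1`
  have havg : ∑ j ∈ Finset.range (2 * p), χ ((x * y) ^ j) =
      ((2 * p * (Finset.univ.filter fun i => lam i = 1).card : ℕ) : ℂ) := by
    simp only [hv]
    rw [Finset.sum_comm, Nat.cast_mul, Finset.card_filter, Nat.cast_sum, Finset.mul_sum]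
    refine Finset.sum_congr rfl fun i _ => ?_
    by_cases h : lam i = 1
    · simp [h]
    · rw [geom_sum_eq h, hl i]; simp [h]
  have hterm : ∀ j ∈ Finset.range (2 * p), χ ((x * y) ^ j) =
      ((if j = 0 then (charDegree χ : ℤ) else if j = p then a else s : ℤ) : ℂ) := by
    intro j hj
    rw [Finset.mem_range] at hj
    split_ifs with h0 hjp
    · subst h0; rw [pow_zero, apply_one hχ]; simp
    · subst hjp
      rw [hxy.mul_pow, show x ^ j = 1 by rw [← hx]; exact pow_orderOf_eq_one x, one_mul]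
      obtain ⟨k, hk⟩ := hodd
      rw [hk, pow_succ, pow_mul, show y ^ 2 = 1 by rw [← hy]; exact pow_orderOf_eq_one y, one_pow, one_mul, ha]
    · have hnd : ¬ p ∣ j := fun hd => by
        obtain ⟨m, rfl⟩ := hd
        have : m < 2 := by
          by_contra hm
          have := Nat.mul_le_mul_left p (show 2 ≤ m by omega)
          omega
        interval_cases m <;> omega
      rw [hxy.mul_pow]
      obtain ⟨k, hk | hk⟩ := Nat.even_or_odd' j
      · subst hk
        rw [pow_mul y, show y ^ 2 = 1 by rw [← hy]; exact pow_orderOf_eq_one y, one_pow, mul_one]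
        exact (hs _ hnd).1
      · subst hk
        rw [pow_succ y, pow_mul y, show y ^ 2 = 1 by rw [← hy]; exact pow_orderOf_eq_one y, one_pow, one_mul]
        exact (hs _ hnd).2
  rw [Finset.sum_congr rfl hterm, ← Int.cast_sum] at havg
  have h2 : ∑ j ∈ Finset.range (2 * p), (if j = 0 then (charDegree χ : ℤ) else if j = p then a else s) =
      2 * (p : ℤ) * s + ((charDegree χ : ℤ) - s) + (a - s) := by
    have hp1 := hp.two_le
    have h1 : ∀ j, (if j = 0 then (charDegree χ : ℤ) else if j = p then a else s) =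
        s + (if j = 0 then (charDegree χ : ℤ) - s else 0) + (if j = p then a - s else 0) := fun j => by
      rcases eq_or_ne j 0 with rfl | h
      · simp [show (0 : ℕ) ≠ p by omega]
      · simp only [if_neg h]; split_ifs <;> ring
    rw [Finset.sum_congr rfl fun j _ => h1 j]
    simp only [Finset.sum_add_distrib, Finset.sum_const, Finset.card_range, Finset.sum_ite_eq', Finset.mem_range,
      nsmul_eq_mul]
    rw [if_pos (by omega), if_pos (by omega)]
    push_cast
    ring
  rw [h2] at havg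
  have h3 : 2 * (p : ℤ) * s + ((charDegree χ : ℤ) - s) + (a - s) =
      2 * (p : ℤ) * (Finset.univ.filter fun i => lam i = 1).card := by exact_mod_cast havg
  have h4 : a - (charDegree χ : ℤ) = (p : ℤ) * (2 * (Finset.univ.filter fun i => lam i = 1).card - 2 * s) -
      2 * ((charDegree χ : ℤ) - s) := by linear_combination h3
  rw [h4]
  exact dvd_sub (dvd_mul_right _ _) (hd.mul_left 2)

/-- The number of involutions of a class inverting an element of order `p`, through the class equation. -/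
theorem structure_constant [Fintype (IrrCharacter G)] (y x : G) :
    ∃ M : ℕ, M = Nat.card {g : G // IsConj (g * y * g⁻¹ * x) y} ∧
      (Nat.card (Subgroup.centralizer ({y} : Set G)) : ℂ) * M =
        (Nat.card G : ℂ) * ∑ χ : IrrCharacter G,
          (χ : G → ℂ) y * conj ((χ : G → ℂ) y) * (χ : G → ℂ) x / (χ : G → ℂ) 1 := by
  classical
  haveI := Fintype.ofFinite G
  refine ⟨_, rfl, ?_⟩
  have h1 : ∀ g : G, ∑ χ : IrrCharacter G, (χ : G → ℂ) (g * y * g⁻¹ * x) * conj ((χ : G → ℂ) y) =
      if IsConj (g * y * g⁻¹ * x) y then (Nat.card (Subgroup.centralizer ({y} : Set G)) : ℂ) else 0 := fun g => by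
    rw [sum_col]
    split_ifs with h
    · rw [Blocks.card_centralizer_eq h.symm]
    · rfl
  have h2 : ∑ g : G, ∑ χ : IrrCharacter G, (χ : G → ℂ) (g * y * g⁻¹ * x) * conj ((χ : G → ℂ) y) =
      (Nat.card (Subgroup.centralizer ({y} : Set G)) : ℂ) * (Nat.card {g : G // IsConj (g * y * g⁻¹ * x) y}) := by
    simp only [h1, ← Finset.sum_filter, Finset.sum_const, nsmul_eq_mul]
    rw [Nat.card_eq_fintype_card (α := {g : G // IsConj (g * y * g⁻¹ * x) y}), Fintype.card_subtype, mul_comm]
  rw [← h2, Finset.sum_comm, Finset.mul_sum]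
  refine Finset.sum_congr rfl fun χ _ => ?_
  rw [← Finset.sum_mul, mul_div_assoc', eq_div_iff (apply_one_ne_zero χ.2)]
  linear_combination conj ((χ : G → ℂ) y) * sum_conj_apply_mul χ.2 y x

/-- Involutions of one class inverting a self-centralising element of order `p`. -/
theorem card_structure_set {p : ℕ} (hp : p.Prime) (hp2 : p ≠ 2) {x y : G} (hx : orderOf x = p)
    (hC : Subgroup.centralizer ({x} : Set G) = Subgroup.zpowers x) (hy : orderOf y = 2) :
    Nat.card {g : G // IsConj (g * y * g⁻¹ * x) y} = 0 ∨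
      Nat.card {g : G // IsConj (g * y * g⁻¹ * x) y} = Nat.card (Subgroup.centralizer ({y} : Set G)) * p := by
  classical
  rcases isEmpty_or_nonempty {g : G // IsConj (g * y * g⁻¹ * x) y} with h | ⟨⟨g₀, hg₀⟩⟩
  · exact Or.inl Nat.card_of_isEmpty
  right
  have hsq : ∀ z, IsConj z y → z * z = 1 := fun z hz => by
    obtain ⟨c, hc⟩ := isConj_iff.1 hz.symm
    have : y * y = 1 := by rw [← sq, ← hy]; exact pow_orderOf_eq_one y
    rw [← hc, show c * y * c⁻¹ * (c * y * c⁻¹) = c * (y * y) * c⁻¹ by group, this]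
    group
  set a₀ := g₀ * y * g₀⁻¹
  have hinv : ∀ a, IsConj a y → IsConj (a * x) y → a * x * a = x⁻¹ := fun a ha hax => by
    have h2 := hsq _ hax
    rw [show a * x * (a * x) = (a * x * a) * x by group] at h2
    exact eq_inv_of_mul_eq_one_left h2
  have ha₀ : IsConj a₀ y := (isConj_iff.2 ⟨g₀, rfl⟩).symm
  have ha₀i := hinv a₀ ha₀ hg₀
  have hconj : ∀ j : ℕ, x ^ j * a₀ * (x ^ j)⁻¹ = a₀ * (x⁻¹) ^ (2 * j) := by
    intro j
    have h2 : a₀ * a₀ = 1 := hsq _ ha₀
    have hc : a₀ * x ^ j * a₀⁻¹ = (x⁻¹) ^ j := by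
      rw [← conj_pow, inv_eq_of_mul_eq_one_right h2, ha₀i]
    calc x ^ j * a₀ * (x ^ j)⁻¹ = a₀ * (a₀⁻¹ * x ^ j * a₀) * (x ^ j)⁻¹ := by group
      _ = a₀ * (a₀ * x ^ j * a₀⁻¹) * (x ^ j)⁻¹ := by rw [inv_eq_of_mul_eq_one_right h2]
      _ = a₀ * (x⁻¹) ^ (2 * j) := by rw [hc, ← inv_pow, mul_assoc, ← pow_add, two_mul]
  -- the relevant involutions
  have hset : ∀ a : G, (IsConj a y ∧ IsConj (a * x) y) ↔ ∃ k ∈ Subgroup.zpowers x, a = a₀ * k := by
    intro a
    constructor
    · rintro ⟨ha, hax⟩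
      refine ⟨a₀⁻¹ * a, ?_, by group⟩
      rw [← hC, Subgroup.mem_centralizer_singleton_iff]
      have h2 := hinv a ha hax
      have h3 : a⁻¹ = a := inv_eq_of_mul_eq_one_right (hsq _ ha)
      have h4 : a₀⁻¹ = a₀ := inv_eq_of_mul_eq_one_right (hsq _ ha₀)
      have h5 : a₀ * x⁻¹ * a₀⁻¹ = x := by
        rw [← conj_inv, h4, ha₀i, inv_inv]
      calc a₀⁻¹ * a * x = a₀⁻¹ * (a * x * a) * a⁻¹ := by group
        _ = (a₀⁻¹ * x⁻¹ * a₀) * (a₀⁻¹ * a) := by rw [h2, h3]; group
        _ = x * (a₀⁻¹ * a) := by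
          rw [show a₀⁻¹ * x⁻¹ * a₀ = x by rw [h4] at h5 ⊢; exact h5]
    · rintro ⟨k, hk, rfl⟩
      have key : ∀ k ∈ Subgroup.zpowers x, IsConj (a₀ * k) y := fun k hk => by
        obtain ⟨m, rfl⟩ := mem_powers_iff_mem_zpowers.2 hk
        obtain ⟨r, hr⟩ := exists_pow_eq_self_of_coprime (x := x⁻¹) (n := 2)
          (by rw [orderOf_inv, hx]; exact Nat.coprime_two_left.2 (hp.odd_of_ne_two hp2))
        show IsConj (a₀ * x ^ m) y
        rw [show x ^ m = (x⁻¹) ^ (2 * (r * (m * (p - 1)))) by
          rw [← mul_assoc, pow_mul _ (2 * r), show x⁻¹ ^ (2 * r) = x⁻¹ by rw [pow_mul]; exact hr,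
            inv_pow, eq_inv_iff_mul_eq_one, ← pow_add,
            show m + m * (p - 1) = p * m by have := hp.one_le; nlinarith [Nat.sub_add_cancel this]]
          rw [pow_mul, ← hx, pow_orderOf_eq_one, one_pow], ← hconj]
        exact (isConj_iff.2 ⟨_, rfl⟩).symm.trans ha₀
      refine ⟨key k hk, ?_⟩
      rw [mul_assoc]
      exact key _ (mul_mem hk (Subgroup.mem_zpowers x))
  let T := {a : G // ∃ k ∈ Subgroup.zpowers x, a = a₀ * k}
  have hT : Nat.card T = p := by
    rw [← hx, ← Nat.card_zpowers]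
    exact Nat.card_congr ⟨fun a => ⟨a₀⁻¹ * a.1, by obtain ⟨k, hk, e⟩ := a.2; rw [e, inv_mul_cancel_left]; exact hk⟩,
      fun k => ⟨a₀ * k.1, k.1, k.2, rfl⟩, fun a => Subtype.ext (mul_inv_cancel_left _ _),
      fun k => Subtype.ext (inv_mul_cancel_left _ _)⟩
  haveI : Fintype T := Fintype.ofFinite _
  let f : {g : G // IsConj (g * y * g⁻¹ * x) y} → T := fun g =>
    ⟨g.1 * y * g.1⁻¹, (hset _).1 ⟨(isConj_iff.2 ⟨g.1, rfl⟩).symm, g.2⟩⟩
  have hfib : ∀ a : T, Nat.card {g // f g = a} = Nat.card (Subgroup.centralizer ({y} : Set G)) := by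
    intro a
    obtain ⟨c, hc⟩ := isConj_iff.1 ((hset a.1).2 a.2).1.symm
    refine Nat.card_congr
      { toFun := fun g => ⟨c⁻¹ * g.1.1, ?_⟩
        invFun := fun z => ⟨⟨c * z.1, ?_⟩, ?_⟩
        left_inv := fun g => Subtype.ext (Subtype.ext (mul_inv_cancel_left _ _))
        right_inv := fun z => Subtype.ext (inv_mul_cancel_left _ _) }
    · have e : g.1.1 * y * g.1.1⁻¹ = a.1 := congrArg Subtype.val g.2
      rw [Subgroup.mem_centralizer_singleton_iff]
      rw [← hc, mul_inv_eq_iff_eq_mul] at e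
      rw [mul_assoc, e]; group
    · rw [show c * z.1 * y * (c * z.1)⁻¹ = a.1 by
        rw [show c * z.1 * y = c * (y * z.1) by rw [← Subgroup.mem_centralizer_singleton_iff.1 z.2, mul_assoc],
          ← hc]; group]
      exact ((hset a.1).2 a.2).2
    · refine Subtype.ext ?_
      show c * z.1 * y * (c * z.1)⁻¹ = a.1
      rw [show c * z.1 * y = c * (y * z.1) by rw [← Subgroup.mem_centralizer_singleton_iff.1 z.2, mul_assoc],
        ← hc]; group
  rw [← Nat.card_congr (Equiv.sigmaFiberEquiv f), Nat.card_sigma, Finset.sum_congr rfl fun a _ => hfib a,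
    Finset.sum_const, Finset.card_univ, ← Nat.card_eq_fintype_card, hT, smul_eq_mul, mul_comm]

end CfsgLib.SmallOrd
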